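import Mathlib

/-!
# The theorems of Kreknin and Kreknin–Kostrikin on `ℤ/n`-graded Lie rings

A grading is a family `A : ZMod n → AddSubgroup L` closed under brackets (`Gr A`); the sum need not be direct.
* `kreknin`: if `A 0 = ⊥` the derived series of the family vanishes after `2 ^ (n - 1) - 1` steps.
* `kk`: for prime `n = p`, derived length `s` gives nilpotency class at most `xi p s = ∑ i < s, (p - 1) ^ i`.
* `GrNil p h`: every `ℤ/p`-graded Lie ring with `A 0 = ⊥` has class at most `h`; `grNil_hkk`, `grNil_three`.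
-/

namespace H16.Lie

universe u

variable {L : Type u} [LieRing L] {n : ℕ}

/-- bracket of two families -/
def br (A B : ZMod n → AddSubgroup L) (c : ZMod n) : AddSubgroup L :=
  AddSubgroup.closure {z | ∃ i j, ∃ x ∈ A i, ∃ y ∈ B j, i + j = c ∧ z = ⁅x, y⁆}

/-- the family is closed under brackets -/
def Gr (A : ZMod n → AddSubgroup L) : Prop := ∀ i j, ∀ x ∈ A i, ∀ y ∈ A j, ⁅x, y⁆ ∈ A (i + j)

theorem br_le {A B : ZMod n → AddSubgroup L} {c : ZMod n} {W : AddSubgroup L}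
    (h : ∀ i j, ∀ x ∈ A i, ∀ y ∈ B j, i + j = c → ⁅x, y⁆ ∈ W) : br A B c ≤ W := by
  rw [br, AddSubgroup.closure_le]
  rintro _ ⟨i, j, x, hx, y, hy, e, rfl⟩
  exact h i j x hx y hy e

theorem mem_br {A B : ZMod n → AddSubgroup L} {i j : ZMod n} {x y : L} (hx : x ∈ A i) (hy : y ∈ B j) :
    ⁅x, y⁆ ∈ br A B (i + j) := AddSubgroup.subset_closure ⟨i, j, x, hx, y, hy, rfl, rfl⟩

theorem Gr.br_le {A : ZMod n → AddSubgroup L} (h : Gr A) (c : ZMod n) : br A A c ≤ A c :=
  Lie.br_le fun i j x hx y hy e => e ▸ h i j x hx y hy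

theorem Gr.br {A : ZMod n → AddSubgroup L} (h : Gr A) : Gr (br A A) :=
  fun _ _ _ hx _ hy => mem_br (h.br_le _ hx) (h.br_le _ hy)

/-- derived series of a family -/
def der (k : ℕ) (A : ZMod n → AddSubgroup L) : ZMod n → AddSubgroup L := (fun B => br B B)^[k] A

theorem der_succ (k : ℕ) (A : ZMod n → AddSubgroup L) : der (k + 1) A = der k (br A A) := rfl

theorem der_succ' (k : ℕ) (A : ZMod n → AddSubgroup L) : der (k + 1) A = br (der k A) (der k A) :=
  Function.iterate_succ_apply' _ _ _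

theorem der_add (k m : ℕ) (A : ZMod n → AddSubgroup L) : der (k + m) A = der k (der m A) :=
  Function.iterate_add_apply _ _ _ _

theorem Gr.der {A : ZMod n → AddSubgroup L} (h : Gr A) (k : ℕ) : Gr (der k A) ∧ ∀ c, der k A c ≤ A c := by
  induction k with
  | zero => exact ⟨h, fun _ => le_rfl⟩
  | succ k ih => rw [der_succ']; exact ⟨ih.1.br, fun c => (ih.1.br_le c).trans (ih.2 c)⟩

theorem kreknin_aux [NeZero n] (k : ℕ) : ∀ A B : ZMod n → AddSubgroup L, Gr A → A 0 = ⊥ → Gr B →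
    (∀ u : ZMod n, k < u.val → A u ≤ B u) → ∀ c, der (2 ^ k - 1) A c ≤ B c := by
  induction k with
  | zero =>
    intro A B _ h0 _ h c
    by_cases hc : c = 0
    · rw [hc]; exact h0.le.trans bot_le
    · exact h c (Nat.pos_of_ne_zero fun e => hc ((ZMod.val_eq_zero c).1 e))
  | succ k ih =>
    intro A B hA h0 hB h c
    have e1 : 2 ^ (k + 1) - 1 = (2 ^ k - 1) + ((2 ^ k - 1) + 1) := by
      have := Nat.two_pow_pos k
      rw [pow_succ]; omega
    rw [e1, der_add]
    refine ih _ B (hA.der _).1 (eq_bot_iff.2 (((hA.der _).2 0).trans h0.le)) hB (fun u hu => ?_) c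
    rcases (Nat.succ_le_of_lt hu).lt_or_eq with hu' | hu'
    · exact ((hA.der _).2 u).trans (h u hu')
    rw [der_succ']
    let B' : ZMod n → AddSubgroup L := fun i =>
      { carrier := {x | x ∈ A i ∧ ∀ j, ∀ y ∈ A j, j + i = u → ⁅y, x⁆ ∈ B u}
        add_mem' := fun ha hb => ⟨add_mem ha.1 hb.1, fun j y hy e => by
          rw [lie_add]; exact add_mem (ha.2 j y hy e) (hb.2 j y hy e)⟩
        zero_mem' := ⟨zero_mem _, fun j y _ _ => by rw [lie_zero]; exact zero_mem _⟩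
        neg_mem' := fun ha => ⟨neg_mem ha.1, fun j y hy e => by rw [lie_neg]; exact neg_mem (ha.2 j y hy e)⟩ }
    have hB' : Gr B' := by
      rintro i j x ⟨hx, hx'⟩ y ⟨hy, hy'⟩
      refine ⟨hA _ _ _ hx _ hy, fun l z hz e => ?_⟩
      rw [leibniz_lie, ← lie_skew x]
      exact add_mem (hy' _ _ (hA _ _ _ hz _ hx) (by rw [← e, add_assoc]))
        (neg_mem (hx' _ _ (hA _ _ _ hz _ hy) (by rw [← e, add_assoc, add_comm j])))
    have h1 := ih A B' hA h0 hB' fun v hv x hx => ⟨hx, fun j y hy e => ?_⟩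
    · exact br_le fun i j x hx y hy e => (h1 j hy).2 i x ((hA.der _).2 i hx) e
    rcases (Nat.succ_le_of_lt hv).lt_or_eq with hv' | hv'
    · rw [← e]
      refine hB _ _ _ (h j ?_ hy) _ (h v hv' hx)
      have h2 := ZMod.val_add j v
      rw [e] at h2
      have h3 := ZMod.val_lt j
      have h4 := ZMod.val_lt v
      by_cases h5 : j.val + v.val < n
      · rw [Nat.mod_eq_of_lt h5] at h2; omega
      · rw [Nat.mod_eq_sub_mod (not_lt.1 h5), Nat.mod_eq_of_lt (by omega)] at h2; omega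
    · have h2 : v = u := ZMod.val_injective n (hv'.symm.trans hu')
      have h3 : j = 0 := by rw [h2] at e; simpa using e
      rw [h3, h0, AddSubgroup.mem_bot] at hy
      rw [hy, zero_lie]; exact zero_mem _

theorem kreknin [NeZero n] {A : ZMod n → AddSubgroup L} (hA : Gr A) (h0 : A 0 = ⊥) (c : ZMod n) :
    der (2 ^ (n - 1) - 1) A c = ⊥ :=
  eq_bot_iff.2 (kreknin_aux (n - 1) A (fun _ => ⊥) hA h0 (fun _ _ x hx y _ => by
    rw [AddSubgroup.mem_bot.1 hx, zero_lie]; exact zero_mem _)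
    (fun u hu => absurd (ZMod.val_lt u) (by omega)) c)

/-- left-normed bracket `[x, y₁, …, y_k]` -/
def act (x : L) (l : List L) : L := l.foldl (fun a b => ⁅a, b⁆) x

@[simp] theorem act_nil (x : L) : act x [] = x := rfl
@[simp] theorem act_cons (x y : L) (l : List L) : act x (y :: l) = act ⁅x, y⁆ l := rfl
theorem act_append (x : L) (l l' : List L) : act x (l ++ l') = act (act x l) l' := List.foldl_append

theorem act_add (x y : L) (l : List L) : act (x + y) l = act x l + act y l := by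
  induction l generalizing x y with
  | nil => rfl
  | cons z l ih => rw [act_cons, add_lie, ih, act_cons, act_cons]

theorem act_zero (l : List L) : act (0 : L) l = 0 := by
  induction l with
  | nil => rfl
  | cons z l ih => rw [act_cons, zero_lie, ih]

theorem act_mem {W : AddSubgroup L} {x : L} {l : List L} (hx : x ∈ W) (h : ∀ y ∈ l, ∀ w ∈ W, ⁅w, y⁆ ∈ W) :
    act x l ∈ W := by
  induction l generalizing x with
  | nil => exact hx
  | cons z l ih => exact ih (h z (by simp) x hx) fun y hy => h y (by simp [hy])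

/-- subset sums of a list of degrees (everything, if a degree is zero) -/
def sums [NeZero n] : List (ZMod n) → Finset (ZMod n)
  | [] => {0}
  | j :: l => if j = 0 then Finset.univ else sums l ∪ (sums l).image (j + ·)

open Pointwise in
theorem card_sums {p : ℕ} [hp : Fact p.Prime] (l : List (ZMod p)) : min p (l.length + 1) ≤ (sums l).card := by
  induction l with
  | nil => simp [sums]
  | cons j l ih =>
    rw [sums]
    split_ifs with h
    · simp
    · have hne : (sums l).Nonempty := Finset.card_pos.1 (lt_of_lt_of_le (by simp [hp.out.pos]) ih)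
      have h1 := ZMod.cauchy_davenport hp.out (s := {0, j}) (by simp) hne
      have h2 : ({0, j} : Finset (ZMod p)) + sums l = sums l ∪ (sums l).image (j + ·) := by
        ext x; simp [Finset.mem_add, -Finset.image_add_left]
      rw [h2, Finset.card_pair (Ne.symm h)] at h1
      rw [List.length_cons]
      omega

theorem kk_move {A V : ZMod n → AddSubgroup L} {W : AddSubgroup L}
    (hW : ∀ j, ∀ y ∈ A j, ∀ w ∈ W, ⁅w, y⁆ ∈ W) (hV : ∀ i j, ∀ x ∈ V i, ∀ y ∈ A j, ⁅x, y⁆ ∈ V (i + j))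
    (hc : ∀ i j k, ∀ x ∈ V i, ∀ y ∈ A j, ∀ z ∈ A k, ⁅x, ⁅y, z⁆⁆ ∈ W) {j : ZMod n} {y : L} (hy : y ∈ A j)
    (l : List (ZMod n × L)) (hl : ∀ q ∈ l, q.2 ∈ A q.1) {i : ZMod n} {x : L} (hx : x ∈ V i) :
    act ⁅x, y⁆ (l.map Prod.snd) - ⁅act x (l.map Prod.snd), y⁆ ∈ W := by
  induction l generalizing i x with
  | nil => simp
  | cons q l ih =>
    have hq := hl q (by simp)
    have hl' : ∀ q ∈ l, q.2 ∈ A q.1 := fun r hr => hl r (by simp [hr])
    have e : ⁅⁅x, y⁆, q.2⁆ = ⁅⁅x, q.2⁆, y⁆ + ⁅x, ⁅y, q.2⁆⁆ := by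
      rw [leibniz_lie x y q.2, ← lie_skew y]; abel
    rw [List.map_cons, act_cons, act_cons, e, act_add, add_sub_right_comm]
    refine add_mem (ih hl' (hV _ _ _ hx _ hq)) (act_mem (hc _ _ _ _ hx _ hy _ hq) fun z hz => ?_)
    obtain ⟨r, hr, rfl⟩ := List.mem_map.1 hz
    exact hW _ _ (hl' r hr)

theorem kk_sums [NeZero n] {A V : ZMod n → AddSubgroup L} {W : AddSubgroup L} (h0 : A 0 = ⊥) (hV0 : V 0 = ⊥)
    (hW : ∀ j, ∀ y ∈ A j, ∀ w ∈ W, ⁅w, y⁆ ∈ W) (hV : ∀ i j, ∀ x ∈ V i, ∀ y ∈ A j, ⁅x, y⁆ ∈ V (i + j))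
    (hc : ∀ i j k, ∀ x ∈ V i, ∀ y ∈ A j, ∀ z ∈ A k, ⁅x, ⁅y, z⁆⁆ ∈ W)
    (l : List (ZMod n × L)) (hl : ∀ q ∈ l, q.2 ∈ A q.1) {i : ZMod n} {x : L} (hx : x ∈ V i)
    (hi : -i ∈ sums (l.map Prod.fst)) : act x (l.map Prod.snd) ∈ W := by
  induction l generalizing i x with
  | nil =>
    have : i = 0 := by simpa [sums] using hi
    rw [this, hV0, AddSubgroup.mem_bot] at hx
    rw [hx]; exact zero_mem _
  | cons q l ih =>
    have hq := hl q (by simp)
    have hl' : ∀ q ∈ l, q.2 ∈ A q.1 := fun r hr => hl r (by simp [hr])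
    rw [List.map_cons, sums] at hi
    rw [List.map_cons, act_cons]
    split_ifs at hi with h
    · rw [h, h0, AddSubgroup.mem_bot] at hq
      rw [hq, lie_zero, act_zero]; exact zero_mem _
    rcases Finset.mem_union.1 hi with h1 | h1
    · have := add_mem (kk_move hW hV hc hq l hl' hx) (hW _ _ hq _ (ih hl' hx h1))
      rwa [sub_add_cancel] at this
    · obtain ⟨s, hs, e⟩ := Finset.mem_image.1 h1
      refine ih hl' (hV _ _ _ hx _ hq) ?_
      rwa [show -(i + q.1) = s by rw [neg_add, ← e]; abel]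

/-- elements bracketed into `W` by the homogeneous elements of `A` -/
def up (A : ZMod n → AddSubgroup L) (W : AddSubgroup L) : AddSubgroup L where
  carrier := {x | ∀ j, ∀ y ∈ A j, ⁅x, y⁆ ∈ W}
  add_mem' ha hb j y hy := by rw [add_lie]; exact add_mem (ha j y hy) (hb j y hy)
  zero_mem' j y _ := by rw [zero_lie]; exact zero_mem _
  neg_mem' ha j y hy := by rw [neg_lie]; exact neg_mem (ha j y hy)

/-- upper central series with respect to `A` -/
def zz (A : ZMod n → AddSubgroup L) : ℕ → AddSubgroup L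
  | 0 => ⊥
  | k + 1 => up A (zz A k)

theorem mem_zz {A : ZMod n → AddSubgroup L} {k : ℕ} {x : L} : x ∈ zz A k ↔
    ∀ l : List (ZMod n × L), (∀ q ∈ l, q.2 ∈ A q.1) → l.length = k → act x (l.map Prod.snd) = 0 := by
  induction k generalizing x with
  | zero =>
    refine ⟨fun h l _ hl => ?_, fun h => h [] (by simp) rfl⟩
    rw [List.length_eq_zero_iff.1 hl]; exact h
  | succ k ih =>
    refine ⟨fun h l hl hk => ?_, fun h j y hy => ih.2 fun l hl hk => h ((j, y) :: l) ?_ (by simp [hk])⟩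
    · obtain ⟨q, l, rfl⟩ := List.exists_cons_of_length_eq_add_one hk
      exact ih.1 (h _ _ (hl q (by simp))) l (fun r hr => hl r (by simp [hr])) (by simpa using hk)
    · intro q hq
      rcases List.mem_cons.1 hq with rfl | h1
      exacts [hy, hl q h1]

theorem zz_inv {A : ZMod n → AddSubgroup L} (hA : Gr A) (k : ℕ) :
    ∀ j, ∀ y ∈ A j, ∀ w ∈ zz (br A A) k, ⁅w, y⁆ ∈ zz (br A A) k := by
  induction k with
  | zero => intro j y _ w hw; rw [AddSubgroup.mem_bot.1 hw, zero_lie]; exact zero_mem _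
  | succ k ih =>
    intro j y hy w hw i z hz
    have e : ⁅⁅w, y⁆, z⁆ = ⁅⁅w, z⁆, y⁆ + ⁅w, ⁅y, z⁆⁆ := by
      rw [leibniz_lie w y z, ← lie_skew y]; abel
    rw [e]
    exact add_mem (ih j y hy _ (hw i z hz)) (hw _ _ (mem_br hy (hA.br_le _ hz)))

theorem act_mem_gr {A : ZMod n → AddSubgroup L} (hA : Gr A) (l : List (ZMod n × L)) (hl : ∀ q ∈ l, q.2 ∈ A q.1)
    {i : ZMod n} {x : L} (hx : x ∈ A i) : ∃ j, act x (l.map Prod.snd) ∈ A j := by
  induction l generalizing i x with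
  | nil => exact ⟨i, hx⟩
  | cons q l ih => exact ih (fun r hr => hl r (by simp [hr])) (hA _ _ _ hx _ (hl q (by simp)))

theorem kk_step {p : ℕ} [hp : Fact p.Prime] {A : ZMod p → AddSubgroup L} (hA : Gr A) (h0 : A 0 = ⊥) (k : ℕ) :
    ∀ i, ∀ x ∈ A i, x ∈ zz (br A A) k → x ∈ zz A ((p - 1) * k) := by
  induction k with
  | zero => exact fun _ _ _ h => h
  | succ k ih =>
    intro i x hx hx'
    refine mem_zz.2 fun l hl hk => ?_
    have hl1 : ∀ q ∈ l.take (p - 1), q.2 ∈ A q.1 := fun q hq => hl q (List.mem_of_mem_take hq)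
    have hl2 : ∀ q ∈ l.drop (p - 1), q.2 ∈ A q.1 := fun q hq => hl q (List.mem_of_mem_drop hq)
    rw [← List.take_append_drop (p - 1) l, List.map_append, act_append]
    obtain ⟨j, hj⟩ := act_mem_gr hA _ hl1 hx
    refine mem_zz.1 (ih j _ hj ?_) _ hl2 (by rw [List.length_drop, hk, mul_add]; simp)
    refine kk_sums (V := fun c => A c ⊓ zz (br A A) (k + 1)) h0 (by simp [h0]) (zz_inv hA k)
      (fun i j x hx y hy => ⟨hA _ _ _ hx.1 _ hy, zz_inv hA _ _ _ hy _ hx.2⟩)
      (fun i j k x hx y hy z hz => hx.2 _ _ (mem_br hy hz)) _ hl1 (i := i) ⟨hx, hx'⟩ ?_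
    have h1 := card_sums ((l.take (p - 1)).map Prod.fst)
    have h2 : (l.take (p - 1)).length = p - 1 := by rw [List.length_take, hk, mul_add]; omega
    rw [List.length_map, h2, Nat.sub_add_cancel hp.out.one_le, min_self] at h1
    exact (Finset.eq_univ_of_card (sums ((l.take (p - 1)).map Prod.fst))
      (le_antisymm (Finset.card_le_univ _) (by rwa [ZMod.card]))).symm ▸ Finset.mem_univ _

/-- `1 + (p - 1) + ⋯ + (p - 1) ^ (s - 1)` -/
def xi (p s : ℕ) : ℕ := ∑ i ∈ Finset.range s, (p - 1) ^ i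

theorem kk {p : ℕ} [hp : Fact p.Prime] (s : ℕ) : ∀ A : ZMod p → AddSubgroup L, Gr A → A 0 = ⊥ →
    (∀ c, der s A c = ⊥) → ∀ c, A c ≤ zz A (xi p s) := by
  induction s with
  | zero => exact fun A _ _ h c => (h c).le
  | succ s ih =>
    intro A hA h0 h c x hx
    have h1 := ih _ hA.br (eq_bot_iff.2 ((hA.br_le 0).trans h0.le)) h
    rw [xi, Finset.sum_range_succ', pow_zero]
    simp only [pow_succ']
    rw [← Finset.mul_sum]
    exact fun j y hy => kk_step hA h0 _ _ _ (hA _ _ _ hx _ hy) (h1 _ (mem_br hx hy))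

/-- every `ℤ/p`-graded Lie ring with trivial zero component has class at most `h` -/
def GrNil (p h : ℕ) : Prop :=
  ∀ (L : Type u) [LieRing L] (A : ZMod p → AddSubgroup L), Gr A → A 0 = ⊥ → ∀ c, A c ≤ zz A h

theorem grNil_hkk (p : ℕ) [Fact p.Prime] : GrNil.{u} p (xi p (2 ^ (p - 1) - 1)) :=
  fun _ _ A hA h0 => kk _ A hA h0 (kreknin hA h0)

theorem grNil_three : GrNil.{u} 3 2 := by
  intro L _ A hA h0 i x hx j y hy k z hz
  have hz0 : ∀ i j, ∀ x ∈ A i, ∀ y ∈ A j, i + j = 0 → ⁅x, y⁆ = 0 := fun i j x hx y hy e => by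
    have := hA _ _ _ hx _ hy
    rwa [e, h0] at this
  have h1 : ∀ i j k : ZMod 3, i = 0 ∨ j = 0 ∨ k = 0 ∨ i + j = 0 ∨ i + j + k = 0 ∨ (j + k = 0 ∧ i + k = 0) := by decide
  change ⁅⁅x, y⁆, z⁆ = 0
  rcases h1 i j k with h | h | h | h | h | h
  · rw [h, h0, AddSubgroup.mem_bot] at hx; simp [hx]
  · rw [h, h0, AddSubgroup.mem_bot] at hy; simp [hy]
  · rw [h, h0, AddSubgroup.mem_bot] at hz; simp [hz]
  · rw [hz0 _ _ _ hx _ hy h, zero_lie]
  · exact hz0 _ _ _ (hA _ _ _ hx _ hy) _ hz h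
  · rw [lie_lie, hz0 _ _ _ hy _ hz h.1, hz0 _ _ _ hx _ hz h.2]; simp

end H16.Lie
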