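import Mathlib
import Cfsg.Agent.H16.Kreknin
import Cfsg.Agent.H04.Class2

/-!
# The Higman–Kreknin–Kostrikin theorem

* `lie_hkk`: a Lie ring with an automorphism `α`, `α ^ p = 1`, whose fixed points are killed by `e` satisfies
  `e * p ^ (h + 1) • [a, y₁, …, y_h] = 0` if `GrNil p h`.
* `AL K`: the Lie ring associated with an N-series `K`.
* `group_hkk`: the corresponding statement for the lower central series of a group.
-/

namespace H16.Lie

open scoped TensorProduct commutatorElement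

universe u

variable {L : Type u} [LieRing L] {n : ℕ}

theorem act_smul (m : ℕ) (x : L) (l : List L) : act (m • x) l = m • act x l := by
  induction l generalizing x with
  | nil => rfl
  | cons z l ih => rw [act_cons, nsmul_lie, ih, act_cons]

theorem act_map {L' : Type*} [LieRing L'] (f : L →+ L') (hf : ∀ x y, f ⁅x, y⁆ = ⁅f x, f y⁆) (x : L) (l : List L) :
    f (act x l) = act (f x) (l.map f) := by
  induction l generalizing x with
  | nil => rfl
  | cons z l ih => rw [act_cons, ih, hf, List.map_cons, act_cons]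

theorem act_map_smul (m : ℕ) (x : L) (l : List L) : act x (l.map (m • ·)) = m ^ l.length • act x l := by
  induction l generalizing x with
  | nil => simp
  | cons z l ih => rw [List.map_cons, act_cons, lie_nsmul, act_smul, ih, act_cons, smul_smul, List.length_cons, pow_succ']

theorem act_eq_zero_of_zz {A : ZMod n → AddSubgroup L} {k : ℕ} {x : L} (hx : x ∈ zz A k) {l : List L}
    (hl : ∀ y ∈ l, y ∈ ⨆ c, A c) (hk : l.length = k) : act x l = 0 := by
  induction k generalizing x l with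
  | zero => rw [List.length_eq_zero_iff.1 hk]; exact hx
  | succ k ih =>
    obtain ⟨y, l, rfl⟩ := List.exists_cons_of_length_eq_add_one hk
    refine ih (x := ⁅x, y⁆) (l := l) ?_ (fun r hr => hl r (by simp [hr])) (by simpa using hk)
    refine AddSubgroup.iSup_induction (C := fun y => ⁅x, y⁆ ∈ zz A k) A (hl y (by simp)) (fun j y hy => hx j y hy)
      (by simp) fun a b ha hb => ?_
    rw [lie_add]; exact add_mem ha hb

theorem GrNil.smul {p h : ℕ} (hp : GrNil.{u} p h) {A : ZMod p → AddSubgroup L} (hA : Gr A) (e : ℕ)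
    (h0 : ∀ x ∈ A 0, e • x = 0) {x : L} (hx : x ∈ ⨆ c, A c) {l : List L} (hl : ∀ y ∈ l, y ∈ ⨆ c, A c)
    (hk : l.length = h) : e • act x l = 0 := by
  let J : LieIdeal ℤ L :=
    { carrier := {x | e • x = 0}
      add_mem' := fun {a b} (ha : e • a = 0) (hb : e • b = 0) => show e • (a + b) = 0 by rw [smul_add, ha, hb, add_zero]
      zero_mem' := smul_zero e
      smul_mem' := fun c a (ha : e • a = 0) => show e • c • a = 0 by rw [smul_comm, ha, smul_zero]
      lie_mem := fun {a b} (hb : e • b = 0) => show e • ⁅a, b⁆ = 0 by rw [← lie_nsmul, hb, lie_zero] }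
  let f : L →+ L ⧸ J := (LieSubmodule.Quotient.mk' J).toLinearMap.toAddMonoidHom
  have hf : ∀ x y, f ⁅x, y⁆ = ⁅f x, f y⁆ := fun x y => LieSubmodule.Quotient.mk_bracket J x y
  have hk0 : ∀ x, f x = 0 ↔ e • x = 0 := fun x => LieSubmodule.Quotient.mk_eq_zero J
  have hB : Gr fun c => (A c).map f := by
    rintro i j _ ⟨x, hx, rfl⟩ _ ⟨y, hy, rfl⟩
    exact ⟨_, hA _ _ _ hx _ hy, hf x y⟩
  have h1 := hp (L ⧸ J) _ hB (by
    rw [eq_bot_iff]
    rintro _ ⟨x, hx, rfl⟩
    exact (hk0 x).2 (h0 x hx))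
  have h2 : ∀ y ∈ ⨆ c, A c, f y ∈ ⨆ c, (A c).map f := fun y hy => by
    rw [← AddSubgroup.map_iSup]; exact AddSubgroup.mem_map_of_mem f hy
  rw [← hk0, act_map f hf]
  refine act_eq_zero_of_zz ((iSup_le h1) (h2 x hx)) (fun y hy => ?_) (by rw [List.length_map, hk])
  obtain ⟨z, hz, rfl⟩ := List.mem_map.1 hy
  exact h2 z (hl z hz)

theorem exists_ring (p : ℕ) [hp : Fact p.Prime] : ∃ (R : Type) (_ : CommRing R) (d : ℕ) (b : Module.Basis (Fin d) ℤ R)
    (i : Fin d) (w : ZMod p → R), b i = 1 ∧ w 0 = 1 ∧ (∀ i j, w (i + j) = w i * w j) ∧ ∑ i, w i = 0 := by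
  have hm := Polynomial.cyclotomic.monic p ℤ
  let pb := AdjoinRoot.powerBasis' hm
  have hd : 0 < pb.dim := by
    change 0 < (Polynomial.cyclotomic p ℤ).natDegree
    rw [Polynomial.natDegree_cyclotomic]; exact Nat.totient_pos.2 hp.out.pos
  set ω := AdjoinRoot.root (Polynomial.cyclotomic p ℤ)
  have h1 : ∑ i ∈ Finset.range p, ω ^ i = 0 := by
    have := (congrArg (Polynomial.eval₂ (AdjoinRoot.of _) ω) (Polynomial.cyclotomic_prime ℤ p)).symm.trans
      (AdjoinRoot.eval₂_root (Polynomial.cyclotomic p ℤ))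
    simpa [Polynomial.eval₂_finsetSum] using this
  have h2 : ω ^ p = 1 := by
    have := mul_geom_sum ω p
    rw [h1, mul_zero] at this
    exact (sub_eq_zero.1 this.symm)
  refine ⟨_, inferInstance, pb.dim, pb.basis, ⟨0, hd⟩, fun i => ω ^ i.val, by simp, by simp, fun i j => ?_, ?_⟩
  · simp only
    rw [← pow_add, ZMod.val_add, ← pow_eq_pow_mod _ h2]
  · rw [← h1, Finset.sum_range]
    obtain ⟨q, rfl⟩ : ∃ q, p = q + 1 := ⟨p - 1, (Nat.sub_add_cancel hp.out.one_le).symm⟩
    rfl

theorem lie_hkk {p h : ℕ} [hp : Fact p.Prime] (hh : GrNil.{u} p h) (α : L →ₗ⁅ℤ⁆ L) (hα : ∀ x, α^[p] x = x) (e : ℕ)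
    (he : ∀ x, α x = x → e • x = 0) (a : L) (l : List L) (hl : l.length = h) : (e * p ^ (h + 1)) • act a l = 0 := by
  obtain ⟨R, _, d, b, i0, w, hb, hw0, hw, hs⟩ := exists_ring p
  let β : R ⊗[ℤ] L →ₗ⁅ℤ⁆ R ⊗[ℤ] L := LieAlgebra.ExtendScalars.map (AlgHom.id ℤ R) α
  have hβ : ∀ r x, β (r ⊗ₜ x) = r ⊗ₜ α x := fun r x => rfl
  let A : ZMod p → AddSubgroup (R ⊗[ℤ] L) := fun i =>
    { carrier := {x | β x = w i • x}
      add_mem' := fun {x y} (hx : β x = _) (hy : β y = _) => show β (x + y) = _ by rw [map_add, hx, hy, smul_add]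
      zero_mem' := show β 0 = _ by rw [map_zero, smul_zero]
      neg_mem' := fun {x} (hx : β x = _) => show β (-x) = _ by rw [map_neg, hx, smul_neg] }
  have hsm : ∀ (r : R) (x y : R ⊗[ℤ] L), ⁅x, r • y⁆ = r • ⁅x, y⁆ :=
    (LieAlgebra.ExtendScalars.instLieAlgebra ℤ R L).lie_smul
  have hA : Gr A := fun i j x (hx : β x = _) y (hy : β y = _) => show β ⁅x, y⁆ = _ by
    rw [LieHom.map_lie, hx, hy, hsm, ← lie_skew, hsm, ← smul_neg, lie_skew,
      smul_smul, hw, mul_comm]
  let φ := TensorProduct.equivFinsuppOfBasisLeft (N := L) b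
  have hφ : ∀ x i, φ (β x) i = α (φ x i) := fun x i => by
    induction x using TensorProduct.induction_on with
    | zero => simp
    | tmul r x => simp [hβ, φ]
    | add x y hx hy => simp only [map_add, Finsupp.add_apply, hx, hy]
  have h0 : ∀ x ∈ A 0, e • x = 0 := fun x (hx : β x = _) => by
    rw [hw0, one_smul] at hx
    apply φ.injective
    ext i
    rw [map_nsmul, map_zero, Finsupp.smul_apply, he _ (by rw [← hφ, hx])]; rfl
  let ι : L →+ R ⊗[ℤ] L := (TensorProduct.mk ℤ R L 1).toAddMonoidHom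
  have hι : ∀ x, ι x = 1 ⊗ₜ x := fun _ => rfl
  have hαv : ∀ (s : ZMod p) (x : L), α (α^[s.val] x) = α^[(s + 1).val] x := fun s x => by
    rw [← Function.iterate_succ_apply' α, ZMod.val_add, ZMod.val_one]
    conv_lhs => rw [Nat.succ_eq_add_one, ← Nat.mod_add_div (s.val + 1) p, Function.iterate_add_apply,
      Function.iterate_mul, Function.iterate_fixed (hα x)]
  have hmem : ∀ x, p • ι x ∈ ⨆ c, A c := fun x => by
    have h1 : p • ι x = ∑ i : ZMod p, ∑ s : ZMod p, w (-(i * s)) ⊗ₜ α^[s.val] x := by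
      rw [Finset.sum_comm, Finset.sum_eq_single 0]
      · simp [hw0, hι]
      · intro s _ hs0
        rw [← TensorProduct.sum_tmul]
        have : ∑ i : ZMod p, w (-(i * s)) = ∑ i, w i :=
          Fintype.sum_equiv ((Equiv.mulRight₀ s hs0).trans (Equiv.neg _)) _ _ fun i => rfl
        rw [this, hs, TensorProduct.zero_tmul]
      · simp
    rw [h1]
    refine sum_mem fun i _ => AddSubgroup.mem_iSup_of_mem i ?_
    change β _ = _
    rw [map_sum, Finset.smul_sum]
    refine Fintype.sum_equiv (Equiv.addRight 1) _ _ fun s => ?_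
    rw [hβ, hαv, TensorProduct.smul_tmul', smul_eq_mul, ← hw]
    congr 2
    simp only [Equiv.coe_addRight]; ring
  have h1 := hh.smul hA e h0 (hmem a) (l := (l.map ι).map (p • ·)) (fun y hy => by
    obtain ⟨z, hz, rfl⟩ := List.mem_map.1 hy
    obtain ⟨z, -, rfl⟩ := List.mem_map.1 hz
    exact hmem z) (by simp [hl])
  rw [act_map_smul, act_smul, ← act_map ι (fun x y => by simp [hι]), List.length_map, hl, smul_smul, smul_smul,
    ← map_nsmul, hι] at h1
  have h2 := congrArg (fun z => φ z i0) h1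
  simp only [φ, TensorProduct.equivFinsuppOfBasisLeft_apply_tmul_apply, map_zero, Finsupp.zero_apply] at h2
  rw [← hb, Module.Basis.repr_self, Finsupp.single_eq_same, one_smul] at h2
  rw [pow_succ, ← mul_assoc, h2]

/-- an N-series, indexed from `0` -/
class NSer {G : Type u} [Group G] (K : ℕ → Subgroup G) : Prop where
  anti : ∀ i, K (i + 1) ≤ K i
  comm : ∀ i j, ∀ x ∈ K i, ∀ y ∈ K j, ⁅x, y⁆ ∈ K (i + j + 1)

section
variable {G : Type u} [Group G] (K : ℕ → Subgroup G) [hK : NSer K]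

theorem NSer.le {i j : ℕ} (h : i ≤ j) : K j ≤ K i := antitone_nat_of_succ_le hK.anti h

theorem NSer.comm' {i j k : ℕ} {x y : G} (hx : x ∈ K i) (hy : y ∈ K j) (h : k ≤ i + j + 1) : ⁅x, y⁆ ∈ K k :=
  NSer.le K h (hK.comm i j x hx y hy)

instance (i : ℕ) : ((K (i + 1)).subgroupOf (K i)).Normal := ⟨fun x hx y => by
  have h := NSer.comm' K y.2 hx (k := i + 1) (by omega)
  have := mul_mem h hx
  rwa [commutatorElement_def, inv_mul_cancel_right] at this⟩

/-- the `i`-th factor -/
def Fac (i : ℕ) : Type u := K i ⧸ (K (i + 1)).subgroupOf (K i)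

instance (i : ℕ) : CommGroup (Fac K i) :=
  { (inferInstance : Group (K i ⧸ (K (i + 1)).subgroupOf (K i))) with
    mul_comm := by
      rintro ⟨x⟩ ⟨y⟩
      refine QuotientGroup.eq.2 ?_
      have h := NSer.comm' K (inv_mem y.2) (inv_mem x.2) (k := i + 1) (by omega)
      rw [Subgroup.mem_subgroupOf]
      simpa [commutatorElement_def, mul_assoc] using h }

/-- the associated Lie ring -/
def AL : Type u := DirectSum ℕ fun i => Additive (Fac K i)

noncomputable instance : AddCommGroup (AL K) := inferInstanceAs (AddCommGroup (DirectSum ℕ fun i => Additive (Fac K i)))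

open Classical in
/-- the image of `g ∈ K i` in the associated Lie ring -/
noncomputable def el (i : ℕ) (g : G) : AL K :=
  if h : g ∈ K i then DirectSum.of (fun i => Additive (Fac K i)) i (Additive.ofMul (QuotientGroup.mk ⟨g, h⟩)) else 0

variable {K}

theorem el_def {i : ℕ} {g : G} (h : g ∈ K i) :
    el K i g = DirectSum.of (fun i => Additive (Fac K i)) i (Additive.ofMul (QuotientGroup.mk ⟨g, h⟩)) := dif_pos h

theorem el_mul {i : ℕ} {g h : G} (hg : g ∈ K i) (hh : h ∈ K i) : el K i (g * h) = el K i g + el K i h := by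
  rw [el_def hg, el_def hh, el_def (mul_mem hg hh)]
  exact map_add (DirectSum.of (fun i => Additive (Fac K i)) i) (Additive.ofMul (QuotientGroup.mk ⟨g, hg⟩))
    (Additive.ofMul (QuotientGroup.mk ⟨h, hh⟩))

theorem el_eq_zero {i : ℕ} {g : G} (hg : g ∈ K i) : el K i g = 0 ↔ g ∈ K (i + 1) := by
  rw [el_def hg]
  refine (map_eq_zero_iff _ (DirectSum.of_injective i)).trans ?_
  exact QuotientGroup.eq_one_iff (N := (K (i + 1)).subgroupOf (K i)) ⟨g, hg⟩

theorem el_zero {i j : ℕ} {g : G} (hg : g ∈ K j) (h : i < j) : el K i g = 0 :=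
  (el_eq_zero (NSer.le K h.le hg)).2 (NSer.le K h hg)

theorem el_one (i : ℕ) : el K i 1 = 0 := (el_eq_zero (one_mem _)).2 (one_mem _)

theorem el_inv {i : ℕ} {g : G} (hg : g ∈ K i) : el K i g⁻¹ = - el K i g := by
  rw [eq_neg_iff_add_eq_zero, ← el_mul (inv_mem hg) hg, inv_mul_cancel, el_one]

theorem el_pow {i : ℕ} {g : G} (hg : g ∈ K i) (m : ℕ) : el K i (g ^ m) = m • el K i g := by
  induction m with
  | zero => rw [pow_zero, el_one, zero_smul]
  | succ m ih => rw [pow_succ, el_mul (pow_mem hg m) hg, ih, succ_nsmul]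

theorem el_conj {i j : ℕ} {g h : G} (hg : g ∈ K i) (hh : h ∈ K j) : el K i (h * g * h⁻¹) = el K i g := by
  rw [show h * g * h⁻¹ = ⁅h, g⁆ * g by group, el_mul (NSer.comm' K hh hg (by omega)) hg,
    el_zero (hK.comm _ _ _ hh _ hg) (by omega), zero_add]

theorem conj_mem {i j : ℕ} {g h : G} (hg : g ∈ K i) (hh : h ∈ K j) : h * g * h⁻¹ ∈ K i := by
  rw [show h * g * h⁻¹ = ⁅h, g⁆ * g by group]
  exact mul_mem (NSer.comm' K hh hg (by omega)) hg

theorem AL.ind {P : AL K → Prop} (x : AL K) (h0 : P 0) (h1 : ∀ i, ∀ g ∈ K i, P (el K i g))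
    (h2 : ∀ x y, P x → P y → P (x + y)) : P x := by
  refine DirectSum.induction_on (motive := P) x h0 ?_ h2
  rintro i ⟨g⟩
  have := h1 i g g.2
  rwa [el_def g.2] at this

/-- universal property -/
noncomputable def AL.lift {M : Type*} [AddCommGroup M] (f : ∀ i, K i → M) (h1 : ∀ i g h, f i (g * h) = f i g + f i h)
    (h2 : ∀ i (g : K i), (g : G) ∈ K (i + 1) → f i g = 0) : AL K →+ M :=
  DirectSum.toAddMonoid fun i => MonoidHom.toAdditiveLeft
    (QuotientGroup.lift ((K (i + 1)).subgroupOf (K i))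
      (MonoidHom.mk' (fun g => Multiplicative.ofAdd (f i g)) fun g h => by rw [h1]; rfl) fun g hg => h2 i g hg)

theorem AL.lift_el {M : Type*} [AddCommGroup M] (f : ∀ i, K i → M) (h1) (h2) {i : ℕ} {g : G} (hg : g ∈ K i) :
    AL.lift f h1 h2 (el K i g) = f i ⟨g, hg⟩ := by
  rw [el_def hg]; exact DirectSum.toAddMonoid_of _ _ _

theorem AL.hom_ext {M : Type*} [AddCommGroup M] {f f' : AL K →+ M}
    (h : ∀ i, ∀ g ∈ K i, f (el K i g) = f' (el K i g)) : f = f' :=
  AddMonoidHom.ext fun x => AL.ind (P := fun x => f x = f' x) x (by simp) h fun x y hx hy => by rw [map_add, map_add, hx, hy]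

/-- bracket with a homogeneous element -/
noncomputable def br1 (i : ℕ) (g : K i) : AL K →+ AL K :=
  AL.lift (fun j h => el K (i + j + 1) ⁅(g : G), (h : G)⁆)
    (fun j h k => by
      rw [Subgroup.coe_mul, show ⁅(g : G), (h : G) * k⁆ = ⁅(g : G), (h : G)⁆ * (h * ⁅(g : G), (k : G)⁆ * (h : G)⁻¹) by group,
        el_mul (hK.comm _ _ _ g.2 _ h.2) (conj_mem (hK.comm _ _ _ g.2 _ k.2) h.2),
        el_conj (hK.comm _ _ _ g.2 _ k.2) h.2])
    fun j h hh => el_zero (hK.comm _ _ _ g.2 _ hh) (by omega)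

/-- the bracket -/
noncomputable def br2 : AL K →+ AL K →+ AL K :=
  AL.lift br1
    (fun i g k => AL.hom_ext fun j h hh => by
      rw [AddMonoidHom.add_apply, br1, br1, br1, AL.lift_el _ _ _ hh, AL.lift_el _ _ _ hh, AL.lift_el _ _ _ hh,
        Subgroup.coe_mul, show ⁅(g : G) * k, h⁆ = (g * ⁅(k : G), h⁆ * (g : G)⁻¹) * ⁅(g : G), h⁆ by group,
        el_mul (conj_mem (hK.comm _ _ _ k.2 _ hh) g.2) (hK.comm _ _ _ g.2 _ hh),
        el_conj (hK.comm _ _ _ k.2 _ hh) g.2, add_comm])
    fun i g hg => AL.hom_ext fun j h hh => by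
      rw [br1, AL.lift_el _ _ _ hh]
      exact el_zero (hK.comm _ _ _ hg _ hh) (by omega)

theorem br2_el {i j : ℕ} {g h : G} (hg : g ∈ K i) (hh : h ∈ K j) :
    br2 (el K i g) (el K j h) = el K (i + j + 1) ⁅g, h⁆ := by
  rw [br2, AL.lift_el _ _ _ hg, br1, AL.lift_el _ _ _ hh]

theorem br2_skew (x y : AL K) : br2 x y = - br2 y x := by
  induction x using AL.ind with
  | h0 => simp
  | h2 a b ha hb => simp only [map_add, AddMonoidHom.add_apply, ha, hb, neg_add]
  | h1 i g hg =>
  induction y using AL.ind with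
  | h0 => simp
  | h2 a b ha hb => simp only [map_add, AddMonoidHom.add_apply, ha, hb, neg_add]
  | h1 j h hh => rw [br2_el hg hh, br2_el hh hg, ← el_inv (hK.comm _ _ _ hh _ hg), commutatorElement_inv, add_comm j]

theorem br2_jac (x y z : AL K) : br2 (br2 x y) z + br2 (br2 y z) x + br2 (br2 z x) y = 0 := by
  induction x using AL.ind with
  | h0 => simp
  | h2 a b ha hb => simp only [map_add, AddMonoidHom.add_apply]; rw [← add_zero 0]; nth_rewrite 1 [← ha, ← hb]; abel
  | h1 i g hg =>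
  induction y using AL.ind with
  | h0 => simp
  | h2 a b ha hb => simp only [map_add, AddMonoidHom.add_apply]; rw [← add_zero 0]; nth_rewrite 1 [← ha, ← hb]; abel
  | h1 j h hh =>
  induction z using AL.ind with
  | h0 => simp
  | h2 a b ha hb => simp only [map_add, AddMonoidHom.add_apply]; rw [← add_zero 0]; nth_rewrite 1 [← ha, ← hb]; abel
  | h1 k t ht =>
    have c1 := hK.comm _ _ _ (hK.comm _ _ _ hg _ hh) _ (conj_mem ht hh)
    have c2 := hK.comm _ _ _ (hK.comm _ _ _ hh _ ht) _ (conj_mem hg ht)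
    have c3 := hK.comm _ _ _ (hK.comm _ _ _ ht _ hg) _ (conj_mem hh hg)
    rw [br2_el hg hh, br2_el hh ht, br2_el ht hg, ← el_conj ht hh, ← el_conj hg ht, ← el_conj hh hg,
      br2_el (hK.comm _ _ _ hg _ hh) (conj_mem ht hh), br2_el (hK.comm _ _ _ hh _ ht) (conj_mem hg ht),
      br2_el (hK.comm _ _ _ ht _ hg) (conj_mem hh hg)]
    rw [show j + k + 1 + i + 1 = i + j + 1 + k + 1 by omega] at c2 ⊢
    rw [show k + i + 1 + j + 1 = i + j + 1 + k + 1 by omega] at c3 ⊢
    rw [← el_mul c1 c2, ← el_mul (mul_mem c1 c2) c3, ← el_one (i + j + 1 + k + 1)]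
    congr 1
    group

noncomputable instance : LieRing (AL K) where
  bracket x y := br2 x y
  add_lie x y z := by change br2 (x + y) z = br2 x z + br2 y z; rw [map_add, AddMonoidHom.add_apply]
  lie_add x y z := map_add (br2 x) y z
  lie_self x := by
    change br2 x x = 0
    induction x using AL.ind with
    | h0 => simp
    | h1 i g hg => rw [br2_el hg hg, commutatorElement_self, el_one]
    | h2 a b ha hb => simp only [map_add, AddMonoidHom.add_apply, ha, hb, br2_skew a b]; abel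
  leibniz_lie x y z := by
    change br2 x (br2 y z) = br2 (br2 x y) z + br2 y (br2 x z)
    have := br2_jac x y z
    rw [br2_skew (br2 y z) x, br2_skew (br2 z x) y, br2_skew z x, map_neg, neg_neg] at this
    rw [← sub_eq_zero, ← neg_eq_zero, ← this]; abel

theorem lie_el {i j : ℕ} {g h : G} (hg : g ∈ K i) (hh : h ∈ K j) :
    ⁅el K i g, el K j h⁆ = el K (i + j + 1) ⁅g, h⁆ := br2_el hg hh

/-- the endomorphism induced on the associated Lie ring -/
noncomputable def AL.map (α : G →* G) (hα : ∀ i, ∀ g ∈ K i, α g ∈ K i) : AL K →+ AL K :=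
  AL.lift (fun i g => el K i (α g)) (fun i g h => by rw [Subgroup.coe_mul, map_mul, el_mul (hα _ _ g.2) (hα _ _ h.2)])
    fun i g hg => el_zero (hα _ _ hg) (by omega)

theorem AL.map_el (α : G →* G) (hα : ∀ i, ∀ g ∈ K i, α g ∈ K i) {i : ℕ} {g : G} (hg : g ∈ K i) :
    AL.map α hα (el K i g) = el K i (α g) := AL.lift_el _ _ _ hg

theorem AL.map_lie (α : G →* G) (hα : ∀ i, ∀ g ∈ K i, α g ∈ K i) (x y : AL K) :
    AL.map α hα ⁅x, y⁆ = ⁅AL.map α hα x, AL.map α hα y⁆ := by
  induction x using AL.ind with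
  | h0 => simp
  | h2 a b ha hb => simp only [map_add, add_lie, ha, hb]
  | h1 i g hg =>
  induction y using AL.ind with
  | h0 => simp
  | h2 a b ha hb => simp only [map_add, lie_add, ha, hb]
  | h1 j h hh => rw [lie_el hg hh, AL.map_el _ _ hg, AL.map_el _ _ hh, AL.map_el _ _ (hK.comm _ _ _ hg _ hh),
      lie_el (hα _ _ hg) (hα _ _ hh), map_commutatorElement]

/-- homogeneous component -/
noncomputable def AL.pr (i : ℕ) : AL K →+ AL K :=
  AL.lift (fun j g => if j = i then el K j g else 0)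
    (fun j g h => by split_ifs; exacts [el_mul g.2 h.2, (add_zero 0).symm])
    fun j g hg => by split_ifs; exacts [el_zero hg (by omega), rfl]

theorem AL.pr_el (i : ℕ) {j : ℕ} {g : G} (hg : g ∈ K j) : AL.pr i (el K j g) = if j = i then el K j g else 0 :=
  AL.lift_el _ _ _ hg

theorem AL.exists_pr (i : ℕ) (x : AL K) : ∃ g ∈ K i, AL.pr i x = el K i g := by
  induction x using AL.ind with
  | h0 => exact ⟨1, one_mem _, by rw [map_zero, el_one]⟩
  | h1 j g hg =>
    rw [AL.pr_el i hg]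
    split_ifs with h
    · exact ⟨g, h ▸ hg, by rw [h]⟩
    · exact ⟨1, one_mem _, (el_one i).symm⟩
  | h2 a b ha hb =>
    obtain ⟨g, hg, e⟩ := ha
    obtain ⟨h, hh, e'⟩ := hb
    exact ⟨g * h, mul_mem hg hh, by rw [map_add, e, e', el_mul hg hh]⟩

theorem AL.sum_pr (x : AL K) : ∃ N, ∀ M, N ≤ M → ∑ i ∈ Finset.range M, AL.pr i x = x := by
  induction x using AL.ind with
  | h0 => exact ⟨0, by simp⟩
  | h1 j g hg => exact ⟨j + 1, fun M hM => by simp [AL.pr_el _ hg, show j < M by omega]⟩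
  | h2 a b ha hb =>
    obtain ⟨N, e⟩ := ha
    obtain ⟨N', e'⟩ := hb
    exact ⟨N + N', fun M hM => by simp only [map_add, Finset.sum_add_distrib, e M (by omega), e' M (by omega)]⟩

theorem AL.pr_map (α : G →* G) (hα : ∀ i, ∀ g ∈ K i, α g ∈ K i) (i : ℕ) (x : AL K) :
    AL.pr i (AL.map α hα x) = AL.map α hα (AL.pr i x) := by
  induction x using AL.ind with
  | h0 => simp
  | h2 a b ha hb => simp only [map_add, ha, hb]
  | h1 j g hg =>
    rw [AL.map_el _ _ hg, AL.pr_el _ hg, AL.pr_el _ (hα _ _ hg)]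
    split_ifs
    exacts [(AL.map_el _ _ hg).symm, (map_zero _).symm]

end

instance {G : Type u} [Group G] (X : Subgroup G) : NSer X.lowerCentralSeries where
  anti i := X.lowerCentralSeries_antitone (Nat.le_succ i)
  comm i j _ hx _ hy := H04.commutator_lcs_le X i j (Subgroup.commutator_mem_commutator hx hy)

/-- Higman–Kreknin–Kostrikin for the lower central series of `X`. -/
theorem group_hkk {G : Type u} [Group G] {p h : ℕ} [Fact p.Prime] (hh : GrNil.{u} p h) (X : Subgroup G) (α : G →* G)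
    (hX : ∀ g ∈ X, α g ∈ X) (hα : ∀ g, α^[p] g = g) (e : ℕ)
    (he : ∀ i, ∀ g ∈ X.lowerCentralSeries i, α g * g⁻¹ ∈ X.lowerCentralSeries (i + 1) →
      g ^ e ∈ X.lowerCentralSeries (i + 1)) :
    ∀ g ∈ X.lowerCentralSeries h, g ^ (e * p ^ (h + 1)) ∈ X.lowerCentralSeries (h + 1) := by
  set K := X.lowerCentralSeries with hKdef
  have hK : ∀ i, ∀ g ∈ K i, α g ∈ K i := fun i g hg => by
    have h1 : X.map α ≤ X := by rintro _ ⟨x, hx, rfl⟩; exact hX x hx
    have := Subgroup.mem_map_of_mem α hg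
    rw [hKdef, Subgroup.map_lowerCentralSeries] at this
    exact Subgroup.lowerCentralSeries_mono i h1 this
  let β : AL K →ₗ⁅ℤ⁆ AL K := { (AL.map α hK).toIntLinearMap with map_lie' := AL.map_lie α hK _ _ }
  have hβ : ∀ x, β x = AL.map α hK x := fun _ => rfl
  have h1 := lie_hkk hh β (fun x => by
    induction x using AL.ind with
    | h0 => exact Function.iterate_fixed (map_zero β) p
    | h2 a b ha hb => rw [iterate_map_add, ha, hb]
    | h1 i g hg =>
      have : ∀ m, α^[m] g ∈ K i ∧ β^[m] (el K i g) = el K i (α^[m] g) := fun m => by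
        induction m with
        | zero => exact ⟨hg, rfl⟩
        | succ m ih =>
          rw [Function.iterate_succ_apply', Function.iterate_succ_apply', ih.2, hβ, AL.map_el _ _ ih.1]
          exact ⟨hK _ _ ih.1, rfl⟩
      rw [(this p).2, hα]) e (fun x hx => by
    obtain ⟨N, hN⟩ := AL.sum_pr x
    rw [← hN N le_rfl, Finset.smul_sum]
    refine Finset.sum_eq_zero fun i _ => ?_
    obtain ⟨g, hg, e1⟩ := AL.exists_pr i x
    have h2 := AL.pr_map α hK i x
    rw [← hβ, hx, e1, AL.map_el _ _ hg] at h2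
    rw [e1, ← el_pow hg, el_eq_zero (pow_mem hg e)]
    refine he i g hg ((el_eq_zero (mul_mem (hK _ _ hg) (inv_mem hg))).1 ?_)
    rw [el_mul (hK _ _ hg) (inv_mem hg), el_inv hg, ← h2, add_neg_cancel])
  have h2 : ∀ k, ∀ g ∈ K k, el K k g ∈ AddSubgroup.closure {z | ∃ a l, l.length = k ∧ z = act a l} := by
    intro k
    induction k with
    | zero => exact fun g _ => AddSubgroup.subset_closure ⟨_, [], rfl, rfl⟩
    | succ k ih =>
      intro g hg
      induction hg using Subgroup.closure_induction with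
      | one => rw [el_one]; exact zero_mem _
      | mul x y hx hy h3 h4 => rw [el_mul hx hy]; exact add_mem h3 h4
      | inv x hx h3 => rw [el_inv hx]; exact neg_mem h3
      | mem z hz =>
        obtain ⟨x, hx, y, hy, rfl⟩ := hz
        rw [← lie_el (j := 0) hx hy]
        refine AddSubgroup.closure_induction (p := fun z _ => ⁅z, el K 0 y⁆ ∈ AddSubgroup.closure _) ?_ ?_ ?_ ?_ (ih x hx)
        · rintro _ ⟨a, l, hl, rfl⟩
          exact AddSubgroup.subset_closure ⟨a, l ++ [el K 0 y], by simp [hl], by rw [act_append]; rfl⟩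
        · rw [zero_lie]; exact zero_mem _
        · intro a b _ _ ha hb; rw [add_lie]; exact add_mem ha hb
        · intro a _ ha; rw [neg_lie]; exact neg_mem ha
  intro g hg
  rw [← el_eq_zero (pow_mem hg _), el_pow hg]
  refine AddSubgroup.closure_induction (p := fun z _ => (e * p ^ (h + 1)) • z = 0) ?_ (smul_zero _) ?_ ?_ (h2 h g hg)
  · rintro _ ⟨a, l, hl, rfl⟩; exact h1 a l hl
  · intro a b _ _ ha hb; rw [smul_add, ha, hb, add_zero]
  · intro a _ ha; rw [smul_neg, ha, neg_zero]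

end H16.Lie
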