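import Mathlib
import Cfsg.Agent.H16.HKK
import Cfsg.Agent.H16.PLen
import Cfsg.Agent.H02.Thompson
import Cfsg.Agent.H02.Frattini
import Cfsg.Agent.H03.Focal
import Cfsg.Agent.H04.Breadth
import Cfsg.Agent.H04.MaxClass
import Cfsg.Agent.H24.PSolv2

/-!
# Automorphisms of prime order: Higman's bound and Alperin's theorem

`Aut p c α`: `α ^ p = 1` and `α` has at most `c` fixed points; inherited by invariant subgroups and quotients.
* `lcs_eq_bot_of_fpf`: the class bound for fixed-point-free `α`.
* `Aut.card_le`: abelian invariant subgroups of exponent `p ^ m` have order at most `c ^ (p * m)`.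
* `alperin_pgroup`, `alperin`: bounded derived length.
-/

namespace H16

open Subgroup Cfsg _root_.H16.Lie
open scoped commutatorElement IsMulCommutative

universe u

variable {G : Type u} [Group G] {p c : ℕ} {α : G →* G}

/-- `α ^ p = 1` and `α` has at most `c` fixed points -/
structure Aut (p c : ℕ) (α : G →* G) : Prop where
  iter : ∀ g, α^[p] g = g
  card : Nat.card (α.eqLocus (MonoidHom.id G)) ≤ c

theorem Aut.surj [hp : Fact p.Prime] (h : Aut p c α) : Function.Surjective α := fun g =>
  ⟨α^[p - 1] g, by rw [← Function.iterate_succ_apply' α, Nat.succ_eq_add_one, Nat.sub_add_cancel hp.out.one_le, h.iter]⟩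

theorem Aut.sub [Finite G] (h : Aut p c α) (X : Subgroup G) (hX : ∀ g ∈ X, α g ∈ X) :
    Aut p c ((α.comp X.subtype).codRestrict X fun x => hX x x.2) := by
  set β := (α.comp X.subtype).codRestrict X fun x => hX x x.2
  have h1 : ∀ (k : ℕ) (x : X), (β^[k] x : G) = α^[k] x := fun k => by
    induction k with
    | zero => exact fun _ => rfl
    | succ k ih => intro x; rw [Function.iterate_succ_apply', Function.iterate_succ_apply', ← ih]; rfl
  refine ⟨fun x => Subtype.ext (by rw [h1, h.iter]), le_trans ?_ h.card⟩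
  exact Nat.card_le_card_of_injective (fun x => ⟨x.1.1, congrArg Subtype.val x.2⟩)
    fun x y e => Subtype.ext (Subtype.ext (congrArg (fun z => z.1) e :))

theorem Aut.quot [Finite G] (h : Aut p c α) (N : Subgroup G) [N.Normal] (hN : ∀ g ∈ N, α g ∈ N) :
    Aut p c (QuotientGroup.map N N α hN) := by
  classical
  set β := QuotientGroup.map N N α hN
  have h1 : ∀ (k : ℕ) (x : G), β^[k] (x : G ⧸ N) = (α^[k] x : G) := fun k => by
    induction k with
    | zero => exact fun _ => rfl
    | succ k ih => intro x; rw [Function.iterate_succ_apply', Function.iterate_succ_apply', ih]; rfl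
  refine ⟨fun x => by obtain ⟨x, rfl⟩ := QuotientGroup.mk_surjective x; rw [h1, h.iter], le_trans ?_ h.card⟩
  set S := (β.eqLocus (MonoidHom.id _)).comap (QuotientGroup.mk' N)
  have h2 : Nat.card S = Nat.card N * Nat.card (β.eqLocus (MonoidHom.id _)) := by
    have h3 := S.card_mul_index
    rw [index_comap_of_surjective _ (QuotientGroup.mk'_surjective N), ← N.card_mul_index, index_eq_card N,
      ← (β.eqLocus (MonoidHom.id _)).card_mul_index, ← mul_assoc] at h3
    exact Nat.eq_of_mul_eq_mul_right (Nat.pos_of_ne_zero index_ne_zero_of_finite) h3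
  have h3 : Nat.card S ≤ Nat.card N * Nat.card (α.eqLocus (MonoidHom.id G)) := by
    let f : G → G := fun g => (α g)⁻¹ * g
    let r : G → G := fun y => if h : ∃ g, f g = y then h.choose else 1
    have hr : ∀ g, f (r (f g)) = f g := fun g => by
      have : ∃ g', f g' = f g := ⟨g, rfl⟩
      simp only [r, dif_pos this]; exact this.choose_spec
    rw [← Nat.card_prod]
    refine Nat.card_le_card_of_injective (fun g => (⟨f g, QuotientGroup.eq.1 g.2⟩, ⟨g * (r (f g))⁻¹, ?_⟩)) fun x y e => ?_
    · have := hr g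
      change α _ = _ * _
      rw [map_mul, map_inv, ← mul_inv_eq_iff_eq_mul.2 this.symm]
      simp only [f]; group
    · have e1 : f x = f y := congrArg (fun z => z.1.1) e
      have e2 : x * (r (f x))⁻¹ = y * (r (f y))⁻¹ := congrArg (fun z => z.2.1) e
      rw [e1] at e2
      exact Subtype.ext (mul_right_cancel e2)
  rw [h2] at h3
  exact Nat.le_of_mul_le_mul_left h3 Nat.card_pos

theorem Aut.card_le_top [Finite G] [hp : Fact p.Prime] [IsMulCommutative G] (h : Aut p c α) {m : ℕ}
    (he : ∀ g : G, g ^ p ^ m = 1) : Nat.card G ≤ c ^ (p * m) := by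
  let a : AddMonoid.End (Additive G) := MonoidHom.toAdditive α
  have ha : a ^ p = 1 := by
    ext x; rw [AddMonoid.End.coe_pow]; exact h.iter x
  obtain ⟨b, hb⟩ : ∃ b, (a + -1) ^ p = p * b := by
    obtain ⟨r, hr⟩ := (Commute.neg_one_right a).exists_add_pow_prime_eq hp.out
    rw [ha] at hr
    rcases hp.out.eq_two_or_odd' with h2 | h2
    · refine ⟨1 + a * -1 * r, ?_⟩
      rw [hr, h2, neg_one_sq, mul_add, mul_one, ← mul_assoc, ← mul_assoc, one_add_one_eq_two, Nat.cast_ofNat]
    · exact ⟨a * -1 * r, by rw [hr, h2.neg_one_pow, add_neg_cancel, zero_add, ← mul_assoc, ← mul_assoc]⟩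
  have h0 : (a + -1) ^ (p * m) = 0 := by
    rw [pow_mul, hb, (Nat.cast_commute p b).mul_pow, ← Nat.cast_pow]
    ext x
    exact he _
  let δ : G →* G := AddMonoidHom.toMultiplicative (a + -1)
  have h1 : ∀ k : ℕ, Nat.card (AddMonoidHom.toMultiplicative ((a + -1) ^ k : AddMonoid.End _) : G →* G).ker ≤ c ^ k := by
    intro k
    induction k with
    | zero => rw [pow_zero, pow_zero, Subgroup.card_le_one_iff_eq_bot, eq_bot_iff]; exact fun x hx => hx
    | succ k ih =>
      have h2 := H02.card_comap_le δ (AddMonoidHom.toMultiplicative ((a + -1) ^ k : AddMonoid.End _) : G →* G).ker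
      have h3 : δ.ker = α.eqLocus (MonoidHom.id G) := by
        ext x; exact mul_inv_eq_one
      rw [h3] at h2
      rw [pow_succ, pow_succ]
      exact h2.trans (Nat.mul_le_mul ih h.card)
  have := h1 (p * m)
  rw [h0] at this
  rw [← card_top]
  exact (card_le_of_le fun x _ => rfl).trans this

theorem Aut.card_le [Finite G] [hp : Fact p.Prime] (h : Aut p c α) {X : Subgroup G} (hX : ∀ g ∈ X, α g ∈ X)
    [IsMulCommutative X] {m : ℕ} (he : ∀ g ∈ X, g ^ p ^ m = 1) : Nat.card X ≤ c ^ (p * m) :=
  (h.sub X hX).card_le_top fun g => Subtype.ext (he g g.2)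

theorem mulAut_pow_apply (φ : MulAut G) (k : ℕ) (x : G) : (φ ^ k) x = φ^[k] x := by
  induction k with
  | zero => rfl
  | succ k ih => rw [pow_succ', Function.iterate_succ_apply', ← ih]; rfl

theorem lcs_inv {X : Subgroup G} (hX : ∀ g ∈ X, α g ∈ X) (i : ℕ) :
    ∀ g ∈ X.lowerCentralSeries i, α g ∈ X.lowerCentralSeries i := fun g hg => by
  have h1 : X.map α ≤ X := by rintro _ ⟨x, hx, rfl⟩; exact hX x hx
  have := mem_map_of_mem α hg
  rw [map_lowerCentralSeries] at this
  exact lowerCentralSeries_mono i h1 this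

theorem lcs_eq_bot_of_fpf [Finite G] [hp : Fact p.Prime] {h : ℕ} (hh : GrNil.{u} p h) (hα : ∀ g, α^[p] g = g)
    (hf : ∀ g, α g = g → g = 1) (hc : (Nat.card G).Coprime p) : (⊤ : Subgroup G).lowerCentralSeries h = ⊥ := by
  have hs : Function.Surjective α := (⟨hα, le_rfl⟩ : Aut p _ α).surj
  have hn : Group.IsNilpotent G := H02.isNilpotent_of_fpf_aut
    (MulEquiv.ofBijective α ⟨Finite.injective_iff_surjective.2 hs, hs⟩) hf hp.out
    (by ext x; rw [mulAut_pow_apply]; exact hα x)
  have h1 := group_hkk hh ⊤ α (fun _ _ => mem_top _) hα 1 fun i g _ hg => by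
    rw [pow_one]
    refine inv_mem_iff.1 (H02.fpf_quotient α _ hf (lcs_inv (fun _ _ => mem_top _) _) ?_)
    rwa [map_inv, inv_inv]
  have h2 : (⊤ : Subgroup G).lowerCentralSeries h ≤ (⊤ : Subgroup G).lowerCentralSeries (h + 1) := fun g hg =>
    H03.mem_of_pow_mem_of_coprime (h1 g hg) (by
      rw [one_mul]; exact Nat.Coprime.pow_right _ (Nat.Coprime.coprime_dvd_left (orderOf_dvd_natCard g) hc))
  have h3 : ∀ k, (⊤ : Subgroup G).lowerCentralSeries h ≤ (⊤ : Subgroup G).lowerCentralSeries (h + k) := by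
    intro k
    induction k with
    | zero => exact le_rfl
    | succ k ih => exact h2.trans (commutator_mono ih le_rfl)
  obtain ⟨k, hk⟩ := Subgroup.nilpotent_iff_lowerCentralSeries.1 hn
  exact eq_bot_iff.2 ((h3 k).trans ((Subgroup.lowerCentralSeries_antitone _ (Nat.le_add_left k h)).trans hk.le))

theorem lcs_normal (H : Subgroup G) [H.Normal] (i : ℕ) : (H.lowerCentralSeries i).Normal := by
  induction i with
  | zero => exact inferInstanceAs H.Normal
  | succ i ih => rw [Subgroup.lowerCentralSeries_succ]; infer_instance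

theorem alperin_pgroup [hp : Fact p.Prime] (n : ℕ) : ∃ l, ∀ (G : Type u) [Group G] [Finite G], IsPGroup p G →
    ∀ α : G →* G, Aut p (p ^ n) α → derivedSeries G l = ⊥ := by
  obtain ⟨h, hh⟩ : ∃ h, GrNil.{u} p h := ⟨_, grNil_hkk p⟩
  set u := n * (p * (n + (h + 1)))
  refine ⟨(u + 1) + (h + 1), fun G _ _ hG α hα => ?_⟩
  set H := (⊤ : Subgroup G).lowerCentralSeries (u + 1)
  have hH : ∀ g ∈ H, α g ∈ H := lcs_inv (fun _ _ => mem_top _) _
  have hn := lcs_normal H
  have h1 := group_hkk hh H α hH hα.iter (p ^ n) fun i g _ hg => by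
    have hq := hα.quot _ (lcs_inv hH (i + 1))
    obtain ⟨k, hk⟩ := ((hG.to_quotient (H.lowerCentralSeries (i + 1))).to_subgroup
      ((QuotientGroup.map _ _ α (lcs_inv hH (i + 1))).eqLocus (MonoidHom.id _))).exists_card_eq
    have h2 := hq.card
    rw [hk] at h2
    have h3 : (g : G ⧸ H.lowerCentralSeries (i + 1)) ∈
        (QuotientGroup.map _ _ α (lcs_inv hH (i + 1))).eqLocus (MonoidHom.id _) :=
      (QuotientGroup.eq_iff_div_mem).2 (by rwa [div_eq_mul_inv])
    rw [← QuotientGroup.eq_one_iff, QuotientGroup.mk_pow, ← orderOf_dvd_iff_pow_eq_one]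
    exact (orderOf_dvd_natCard _ h3).trans (hk ▸ pow_dvd_pow _ ((Nat.pow_le_pow_iff_right hp.out.one_lt).1 h2))
  set A := H.lowerCentralSeries h
  set B := H.lowerCentralSeries (h + 1)
  have hB : B = ⊥ := by
    by_contra hB
    have hq := hα.quot B (lcs_inv hH _)
    have : IsMulCommutative (A.map (QuotientGroup.mk' B)) := by
      refine ⟨⟨?_⟩⟩
      rintro ⟨_, x, hx, rfl⟩ ⟨_, y, hy, rfl⟩
      refine Subtype.ext ((QuotientGroup.eq_iff_div_mem (x := x * y) (y := y * x)).2 ?_)
      have : ⁅x, y⁆ ∈ B := commutator_mem_commutator hx (Subgroup.lowerCentralSeries_antitone H (Nat.zero_le h) hy)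
      simpa [commutatorElement_def, div_eq_mul_inv, mul_assoc] using this
    have h2 := hq.card_le (X := A.map (QuotientGroup.mk' B)) (m := n + (h + 1))
      (by rintro _ ⟨x, hx, rfl⟩; exact ⟨α x, lcs_inv hH _ x hx, rfl⟩)
      (by rintro _ ⟨x, hx, rfl⟩; rw [← map_pow, pow_add]; exact (QuotientGroup.eq_one_iff _).2 (h1 x hx))
    have h3 := H02.card_comap_le (QuotientGroup.mk' B) (A.map (QuotientGroup.mk' B))
    rw [QuotientGroup.ker_mk'] at h3
    have h4 := card_le_of_le (le_comap_map (QuotientGroup.mk' B) A)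
    have h5 : B ≤ iterCommutator A ⊤ (u + 1 + 1) := H04.commutator_lcs_le_iterComm _ A
    have h6 := H04.pow_mul_card_iterComm_le (N := A) (A := ⊤) (hG.to_subgroup _) (hG.to_subgroup _)
      le_normalizer_of_normal 0 (u + 1) (fun h0 => hB (eq_bot_iff.2 (h5.trans
        ((H04.iterComm_succ_le le_normalizer_of_normal _).trans (by rw [zero_add] at h0; exact h0.le)))))
    rw [zero_add, H04.iterComm_zero] at h6
    have h7 := card_le_of_le h5
    rw [← pow_mul] at h2
    have h8 : p ^ (u + 1 + 1) * Nat.card B ≤ p ^ u * Nat.card B :=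
      (Nat.mul_le_mul_left _ h7).trans (h6.trans (h4.trans (h3.trans (Nat.mul_le_mul_right _ h2))))
    have h9 := (Nat.pow_le_pow_iff_right hp.out.one_lt).1 (Nat.le_of_mul_le_mul_right h8 Nat.card_pos)
    omega
  refine eq_bot_iff.2 ((derivedSeries_add_le (H := H) (Subgroup.derived_le_lower_central _) _).trans ?_)
  rw [← hB]
  exact (map_mono (Subgroup.derived_le_lower_central _)).trans (top_subtype_lowerCentralSeries H _).le

theorem derived_le_of_index_le [Finite G] [Group.IsSolvable G] (T : Subgroup G) [T.Normal] {w : ℕ} (hw : T.index ≤ w) :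
    derivedSeries G w ≤ T := by
  have h1 : ∀ k, derivedSeries (G ⧸ T) k = ⊥ ∨ Nat.card (derivedSeries (G ⧸ T) k) + k ≤ T.index := by
    intro k
    induction k with
    | zero => right; rw [derivedSeries_zero, card_top]; exact le_rfl
    | succ k ih =>
      by_cases h0 : derivedSeries (G ⧸ T) k = ⊥
      · left; rw [derivedSeries_succ, h0, commutator_bot_left]
      · right
        have h2 := Group.IsSolvable.commutator_lt_of_ne_bot h0
        have h3 : Nat.card (derivedSeries (G ⧸ T) (k + 1)) < Nat.card (derivedSeries (G ⧸ T) k) :=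
          lt_of_le_of_ne (card_le_of_le h2.le) fun e => h2.ne (eq_of_le_of_card_ge h2.le e.ge)
        have := ih.resolve_left h0
        omega
  have h2 : derivedSeries (G ⧸ T) w = ⊥ := (h1 w).resolve_right fun h => by
    have : 0 < Nat.card (derivedSeries (G ⧸ T) w) := Nat.card_pos
    omega
  have h3 := map_derivedSeries_le_derivedSeries (QuotientGroup.mk' T) w
  rwa [h2, le_bot_iff, Subgroup.map_eq_bot_iff, QuotientGroup.ker_mk'] at h3

theorem alperin [hp : Fact p.Prime] (n : ℕ) : ∃ l, ∀ (G : Type u) [Group G] [Finite G], Group.IsSolvable G →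
    ∀ α : G →* G, (∀ g, α^[p] g = g) → Nat.card (α.eqLocus (MonoidHom.id G)) = p ^ n → derivedSeries G l = ⊥ := by
  obtain ⟨h, hh⟩ : ∃ h, GrNil.{u} p h := ⟨_, grNil_hkk p⟩
  obtain ⟨l, hl⟩ := alperin_pgroup.{u} (p := p) n
  refine ⟨((p ^ n) ^ (p * 1)).factorial + l + h, fun G _ _ hG α h1 h2 => ?_⟩
  have hα : Aut p (p ^ n) α := ⟨h1, h2.le⟩
  obtain ⟨X, _, _, f, hf, -, hC, hT, hk⟩ := H24.PS.exists_red (p := p) (G := G) (H24.PS.of_solvable)
  set O := pPrimeCore p G
  have hO : ∀ g ∈ O, α g ∈ O := fun g hg => H02.map_pPrimeCore_le α hα.surj (mem_map_of_mem α hg)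
  have hq := hα.quot O hO
  set P := pCore p (G ⧸ O)
  have hP : IsPGroup p P := H02.pCore_isPGroup p _
  have hs := hq.sub P fun g hg => H02.map_pCore_le _ hq.surj (mem_map_of_mem _ hg)
  have hs' := hs.quot (frattini P) fun g hg => H02.frattini_map_le _ hs.surj (mem_map_of_mem _ hg)
  have : Group.IsNilpotent P := hP.isNilpotent
  have : IsMulCommutative (P ⧸ frattini P) :=
    Normal.quotient_commutative_iff_commutator_le.2 (H02.commutator_le_frattini_of_isNilpotent P)
  have h3 := hs'.card_le_top (m := 1) fun g => by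
    obtain ⟨x, rfl⟩ := QuotientGroup.mk_surjective g
    rw [pow_one, ← QuotientGroup.mk_pow, QuotientGroup.eq_one_iff]
    exact H04.pow_mem_frattini hP x
  have h4 : Nat.card (pCore p X) = (frattini P).index := by
    have e1 := (pCore p X).card_mul_index
    have e2 : f.ker.index = Nat.card X := by rw [index_ker, MonoidHom.range_eq_top.2 hf, card_top]
    rw [← index_comap_of_surjective _ hf, hT, ← e2, hk, pPrimePCore,
      index_comap_of_surjective _ (QuotientGroup.mk'_surjective _),
      index_comap_of_surjective _ (QuotientGroup.mk'_surjective _), index_map_subtype] at e1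
    exact Nat.eq_of_mul_eq_mul_right (Nat.pos_of_ne_zero index_ne_zero_of_finite) e1
  have h5 : (pPrimePCore p G).index ≤ ((p ^ n) ^ (p * 1)).factorial := by
    rw [← hT, index_comap_of_surjective _ hf]
    have e1 : (MulAut.conjNormal (H := pCore p X)).ker ≤ pCore p X := fun x hx => hC fun y hy => by
      have := congrArg (fun φ : MulAut (pCore p X) => (φ ⟨y, hy⟩ : X)) hx
      exact (mul_inv_eq_iff_eq_mul.1 this).symm
    refine (index_antitone e1).trans ?_
    rw [index_ker]
    refine (Nat.card_le_card_of_injective _ (MonoidHom.range _).subtype_injective).trans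
      ((Nat.card_le_card_of_injective _ MulEquiv.toEquiv_injective).trans ?_)
    rw [Nat.card_perm, h4]
    exact Nat.factorial_le h3
  have h6 := derivedSeries_add_le (derived_le_of_index_le _ h5) l
  have h7 : derivedSeries G (((p ^ n) ^ (p * 1)).factorial + l) ≤ O := by
    refine h6.trans ?_
    rintro _ ⟨x, hx, rfl⟩
    let φ : pPrimePCore p G →* P := ((QuotientGroup.mk' O).comp (Subgroup.subtype _)).codRestrict P fun y => y.2
    have := map_derivedSeries_le_derivedSeries φ l (mem_map_of_mem φ hx)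
    rw [hl P hP _ hs] at this
    exact (QuotientGroup.eq_one_iff _).1 (congrArg Subtype.val this)
  have h8 := lcs_eq_bot_of_fpf hh (hα.sub O hO).iter (fun g hg => by
    have e1 : (g : G) ∈ α.eqLocus (MonoidHom.id G) := congrArg Subtype.val hg
    have e2 := orderOf_dvd_natCard _ e1
    rw [h2] at e2
    exact Subtype.ext (orderOf_eq_one_iff.1 (Nat.eq_one_of_dvd_coprimes
      (Nat.Coprime.pow_right n (H02.orderOf_coprime_of_mem_pPrimeCore g.2)) dvd_rfl e2))) (H02.pPrimeCore_coprime p G)
  refine eq_bot_iff.2 ((derivedSeries_add_le h7 h).trans ?_)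
  rw [eq_bot_iff.2 ((Subgroup.derived_le_lower_central h).trans h8.le), Subgroup.map_bot]

end H16
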