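import Mathlib
import Cfsg.Agent.S0215
import Cfsg.Agent.H16.Util
import Cfsg.Agent.H03.Fusion
import Cfsg.Agent.H02.PPrimeCore
import Cfsg.Agent.H08.ZStarCore

/-!
# Glauberman's Z*-theorem for weakly closed `2`-elements of arbitrary order

`zstar_weak`: if `t ∈ S ∈ Syl₂(G)` is conjugate to no other element of `S`, then `[t, G] ≤ O(G)`.
-/

set_option autoImplicit false

namespace H16

open Subgroup Cfsg
open scoped commutatorElement

universe u

variable {G : Type*} [Group G]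

theorem weak_exists_conj [Finite G] {p : ℕ} [Fact p.Prime] (S : Sylow p G) {t : G}
    (ht : t ∈ (S : Subgroup G))
    (h : ∀ g : G, g * t * g⁻¹ ∈ (S : Subgroup G) → g * t * g⁻¹ = t) (N : Subgroup G) [hN : N.Normal]
    {g : G} (hg : g * t * g⁻¹ ∈ (S : Subgroup G) ⊔ N) : ∃ o ∈ N, o * (g * t * g⁻¹) * o⁻¹ = t := by
  obtain ⟨k, hk⟩ := exists_orderOf_eq_of_mem S.isPGroup' ht
  have hk' : orderOf (g * t * g⁻¹) = p ^ k := by rw [← hk]; exact (MulAut.conj g).orderOf_eq t
  obtain ⟨c, hc, hc'⟩ := H03.exists_conj_mem_of_not_dvd_relIndex (C := (S : Subgroup G) ⊔ N) S.isPGroup'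
    (fun h => S.not_dvd_index (h.trans (relIndex_dvd_index_of_le le_sup_left)))
    (isPGroup_zpowers hk') (zpowers_le.2 hg)
  obtain ⟨s, hs, o, ho, rfl⟩ := mem_sup_of_normal_right.1 hc
  have h1 := hc' _ (mem_zpowers _)
  have h2 : o * g * t * (o * g)⁻¹ ∈ (S : Subgroup G) := by
    have := mul_mem (mul_mem (inv_mem hs) h1) hs
    convert this using 1
    group
  refine ⟨o, ho, ?_⟩
  have := h _ h2
  calc o * (g * t * g⁻¹) * o⁻¹ = o * g * t * (o * g)⁻¹ := by group
    _ = t := this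

theorem weak_quotient [Finite G] {p : ℕ} [Fact p.Prime] (S : Sylow p G) {t : G}
    (ht : t ∈ (S : Subgroup G))
    (h : ∀ g : G, g * t * g⁻¹ ∈ (S : Subgroup G) → g * t * g⁻¹ = t) (N : Subgroup G) [hN : N.Normal]
    (g : G ⧸ N) (hg : g * (t : G ⧸ N) * g⁻¹ ∈
      ((S.mapSurjective (QuotientGroup.mk'_surjective N) : Sylow p (G ⧸ N)) : Subgroup (G ⧸ N))) :
    g * (t : G ⧸ N) * g⁻¹ = t := by
  obtain ⟨g, rfl⟩ := QuotientGroup.mk_surjective g
  have h1 : g * t * g⁻¹ ∈ (S : Subgroup G) ⊔ N := by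
    have : g * t * g⁻¹ ∈ ((S : Subgroup G).map (QuotientGroup.mk' N)).comap (QuotientGroup.mk' N) := hg
    rwa [comap_map_eq, QuotientGroup.ker_mk'] at this
  obtain ⟨o, ho, h2⟩ := weak_exists_conj S ht h N h1
  have h3 := congrArg (QuotientGroup.mk (s := N)) h2
  simpa [(QuotientGroup.eq_one_iff o).2 ho] using h3

theorem zstar_weak_aux (n : ℕ) : ∀ (G : Type u) [Group G] [Finite G], Nat.card G = n →
    ∀ (S : Sylow 2 G) (t : G), t ∈ (S : Subgroup G) →
      (∀ g : G, g * t * g⁻¹ ∈ (S : Subgroup G) → g * t * g⁻¹ = t) →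
      ∀ g : G, t * g * t⁻¹ * g⁻¹ ∈ oddCore G := by
  induction n using Nat.strong_induction_on with
  | _ n ih =>
  intro G _ _ hn S t ht h g
  have key : ∀ (N : Subgroup G) [N.Normal], N ≠ ⊥ →
      ((t * g * t⁻¹ * g⁻¹ : G) : G ⧸ N) ∈ oddCore (G ⧸ N) := by
    intro N _ hN
    refine ih _ ?_ (G ⧸ N) rfl (S.mapSurjective (QuotientGroup.mk'_surjective N)) t
      (mem_map_of_mem _ ht) (weak_quotient S ht h N) g
    rw [← hn, ← index_eq_card, ← N.card_mul_index]
    have := (one_lt_card_iff_ne_bot N).2 hN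
    have h2 : 0 < N.index := Nat.pos_of_ne_zero FiniteIndex.index_ne_zero
    nlinarith
  by_cases hO : oddCore G = ⊥
  swap
  · have := key _ hO
    have h0 : oddCore (G ⧸ oddCore G) = ⊥ := H02.pPrimeCore_quotient_pPrimeCore 2 G
    rw [h0, mem_bot, QuotientGroup.eq_one_iff] at this
    exact this
  by_cases ht1 : t = 1
  · simp [ht1]
  obtain ⟨k, hk⟩ := exists_orderOf_eq_of_mem S.isPGroup' ht
  obtain ⟨k, rfl⟩ : ∃ j, k = j + 1 := by
    cases k with
    | zero => exact absurd (orderOf_eq_one_iff.1 hk) ht1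
    | succ j => exact ⟨j, rfl⟩
  set z := t ^ 2 ^ k with hz
  have hzo : orderOf z = 2 := by
    rw [hz, orderOf_pow_of_dvd (by positivity) (hk ▸ pow_dvd_pow 2 (Nat.le_succ k)), hk, pow_succ,
      Nat.mul_div_cancel_left _ (by positivity)]
  have hSt : (S : Subgroup G) ≤ centralizer {t} := fun s hs =>
    mem_centralizer_singleton_iff.2 (mul_inv_eq_iff_eq_mul.1
      (h s (mul_mem (mul_mem hs ht) (inv_mem hs))))
  have hzc : z ∈ center G := by
    have hiso : IsIsolatedInvolution z := by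
      apply H08.isIsolated_of_sylow S hzo
      intro x hx
      have h1 : x⁻¹ * t * x ∈ centralizer {z} := by
        have := mem_centralizer_singleton_iff.1 (hSt hx)
        rw [mem_centralizer_singleton_iff]
        calc x⁻¹ * t * x * z = x⁻¹ * (t * (x * z * x⁻¹)) * x := by group
          _ = _ := by rw [← this]; group
      have hSz : (S : Subgroup G) ≤ centralizer {z} := fun s hs =>
        mem_centralizer_singleton_iff.2 (Commute.pow_right (mem_centralizer_singleton_iff.1 (hSt hs)) _)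
      have hk' : orderOf (x⁻¹ * t * x) = 2 ^ (k + 1) := by
        rw [← hk]; simpa using (MulAut.conj x⁻¹).orderOf_eq t
      obtain ⟨c, hc, hc'⟩ := H03.exists_conj_mem_of_not_dvd_relIndex (C := centralizer {z}) S.isPGroup'
        (fun h => S.not_dvd_index (h.trans (relIndex_dvd_index_of_le hSz)))
        (isPGroup_zpowers hk') (zpowers_le.2 h1)
      have h2 := h (c * x⁻¹) (by convert hc' _ (mem_zpowers _) using 1; group)
      have h3 : c * x⁻¹ * z * (c * x⁻¹)⁻¹ = z := by rw [hz, ← conj_pow, h2]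
      have h4 := mem_centralizer_singleton_iff.1 hc
      have h5 : x⁻¹ * z * x = z := by
        calc x⁻¹ * z * x = c⁻¹ * (c * x⁻¹ * z * (c * x⁻¹)⁻¹) * c := by group
          _ = c⁻¹ * (z * c) := by rw [h3, mul_assoc]
          _ = z := by rw [← h4]; group
      calc x * z * x⁻¹ = x * (x⁻¹ * z * x) * x⁻¹ := by rw [h5]
        _ = z := by group
    rw [mem_center_iff]
    intro y
    have := Cfsg.Agent.S0215.zstar hiso y
    rw [hO, mem_bot] at this
    calc y * z = (z * y * z⁻¹ * y⁻¹) * (y * z) := by rw [this, one_mul]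
      _ = _ := by group
  haveI : (zpowers z).Normal := ⟨fun a ha y => by
    rw [mem_center_iff.1 (zpowers_le.2 hzc ha) y, mul_inv_cancel_right]; exact ha⟩
  have h1 := key (zpowers z) (by
    rw [Ne, zpowers_eq_bot]
    intro h0
    rw [h0, orderOf_one] at hzo
    exact absurd hzo (by norm_num))
  set c := t * g * t⁻¹ * g⁻¹ with hc
  have h2 : c ∈ zpowers z := by
    have h3 := H02.orderOf_coprime_of_mem_pPrimeCore h1
    set m := orderOf (c : G ⧸ zpowers z)
    have h4 : c ^ m ∈ zpowers z := by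
      rw [← QuotientGroup.eq_one_iff, QuotientGroup.mk_pow, pow_orderOf_eq_one]
    have h5 : (c ^ 2) ^ m = 1 := by
      obtain ⟨j, hj⟩ := h4
      rw [← pow_mul, mul_comm, pow_mul, ← hj, ← hzo, ← zpow_natCast, ← zpow_mul, mul_comm, zpow_mul,
        zpow_natCast, pow_orderOf_eq_one, one_zpow]
    have h6 := H08.eq_one_of_mem_comap_core hO (zpowers z) (zpowers_le.2 hzc) (c := c ^ 2)
      (by rw [QuotientGroup.mk_pow]; exact pow_mem h1 2)
      (Nat.Coprime.coprime_dvd_left (orderOf_dvd_of_pow_eq_one h5) h3)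
    exact mem_of_pow_mem_of_pow_mem h3 h4 (h6 ▸ one_mem _)
  have h3 : g * t * g⁻¹ ∈ (S : Subgroup G) := by
    have : g * t * g⁻¹ = c⁻¹ * t := by rw [hc]; group
    rw [this]
    exact mul_mem (inv_mem (zpowers_le.2 (pow_mem ht _) h2)) ht
  have h4 : c = t * (g * t * g⁻¹)⁻¹ := by rw [hc]; group
  rw [h4, h g h3, mul_inv_cancel]
  exact one_mem _

theorem zstar_weak [Finite G] (S : Sylow 2 G) {t : G} (ht : t ∈ (S : Subgroup G))
    (h : ∀ g : G, g * t * g⁻¹ ∈ (S : Subgroup G) → g * t * g⁻¹ = t) (g : G) :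
    t * g * t⁻¹ * g⁻¹ ∈ oddCore G :=
  zstar_weak_aux _ G rfl S t ht h g

end H16
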