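import Mathlib
import Cfsg.Agent.BG.Api4
import Cfsg.Prelude.Def_LocalStructure

/-! Irreducible actions of a single automorphism on an elementary abelian group: the dimension
divides `e` when `T ^ (q ^ e) = T`; for an automorphism of prime order `p` it is the order of `q`
modulo `p`.  Also a few facts about `IsPClosed`. -/

namespace H16
open Polynomial BG Cfsg

theorem exists_irred_factor_not_inj {k V : Type*} [Field k] [AddCommGroup V] [Module k V]
    (T : Module.End k V) (g : k[X]) (hg : g ≠ 0) (h : ¬ Function.Injective (aeval T g)) :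
    ∃ f : k[X], Irreducible f ∧ f ∣ g ∧ ¬ Function.Injective (aeval T f) := by
  induction g using WfDvdMonoid.induction_on_irreducible with
  | zero => exact absurd rfl hg
  | unit u hu =>
    exfalso; apply h
    exact ((Module.End.isUnit_iff _).1 (hu.map (aeval T))).1
  | mul a i ha hi ih =>
    by_cases h1 : Function.Injective (aeval T i)
    · have h2 : ¬ Function.Injective (aeval T a) := fun h2 => h (by
        rw [map_mul]; exact h1.comp h2)
      obtain ⟨f, hf, hd, hn⟩ := ih ha h2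
      exact ⟨f, hf, hd.mul_left _, hn⟩
    · exact ⟨i, hi, dvd_mul_right _ _, h1⟩

/-- an irreducible `k[T]`-module killed by `g ≠ 0` has dimension the degree of an irreducible
factor of `g` which kills it. -/
theorem exists_irred_finrank {k V : Type*} [Field k] [AddCommGroup V] [Module k V] [Nontrivial V]
    (T : Module.End k V) (hirr : ∀ W : Submodule k V, (∀ w ∈ W, T w ∈ W) → W = ⊥ ∨ W = ⊤)
    (g : k[X]) (hg : g ≠ 0) (h : aeval T g = 0) :
    ∃ f : k[X], Irreducible f ∧ f ∣ g ∧ aeval T f = 0 ∧ Module.finrank k V = f.natDegree := by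
  obtain ⟨v, hv⟩ := exists_ne (0 : V)
  obtain ⟨f, hf, hd, hn⟩ := exists_irred_factor_not_inj T g hg (fun hi => hv (hi (by simp [h])))
  have hc : ∀ (r : k[X]) (w : V), aeval T r (T w) = T (aeval T r w) := fun r w => by
    have : aeval T r * T = T * aeval T r := by
      have h1 : aeval T (r * X) = aeval T (X * r) := by rw [mul_comm]
      simpa using h1
    exact LinearMap.congr_fun this w
  have h0 : aeval T f = 0 := by
    rcases hirr (LinearMap.ker (aeval T f)) (fun w hw => by
      rw [LinearMap.mem_ker] at hw ⊢; rw [hc, hw, map_zero]) with h1 | h1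
    · exact absurd (LinearMap.ker_eq_bot.1 h1) hn
    · exact LinearMap.ker_eq_top.1 h1
  refine ⟨f, hf, hd, h0, ?_⟩
  let φ : k[X] →ₗ[k] V :=
    { toFun := fun r => aeval T r v
      map_add' := fun a b => by simp
      map_smul' := fun c a => by simp }
  have hsurj : Function.Surjective φ := by
    rcases hirr (LinearMap.range φ) (by
      rintro w ⟨r, rfl⟩
      refine ⟨X * r, ?_⟩
      simp [φ]) with h1 | h1
    · exfalso; apply hv
      have : φ 1 ∈ LinearMap.range φ := ⟨1, rfl⟩
      rw [h1] at this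
      simpa [φ] using this
    · exact LinearMap.range_eq_top.1 h1
  have hker : LinearMap.ker φ = (Ideal.span {f}).restrictScalars k := by
    ext r
    simp only [LinearMap.mem_ker, Submodule.restrictScalars_mem, Ideal.mem_span_singleton]
    constructor
    · intro hr
      by_contra hnd
      obtain ⟨a, b, hab⟩ := (hf.coprime_iff_not_dvd.2 hnd)
      apply hv
      have h2 := congrArg (fun s => aeval T s v) hab
      simp only [map_add, map_mul, h0, mul_zero, zero_add, map_one, Module.End.one_apply,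
        Module.End.mul_apply] at h2
      have h3 : aeval T r v = 0 := hr
      rw [h3, map_zero] at h2
      exact h2.symm
    · rintro ⟨s, rfl⟩
      show aeval T (f * s) v = 0
      rw [map_mul, h0, zero_mul]; rfl
  have e := φ.quotKerEquivOfSurjective hsurj
  rw [← e.finrank_eq, hker, ← finrank_quotient_span_eq_natDegree (f := f)]
  exact (Submodule.Quotient.restrictScalarsEquiv k (Ideal.span {f})).finrank_eq

theorem finrank_dvd_of_irred {k V : Type*} [Field k] [Finite k] [AddCommGroup V] [Module k V]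
    [Nontrivial V] (T : Module.End k V)
    (hirr : ∀ W : Submodule k V, (∀ w ∈ W, T w ∈ W) → W = ⊥ ∨ W = ⊤) {e : ℕ}
    (h : T ^ (Nat.card k ^ e) = T) : e = 0 ∨ Module.finrank k V ∣ e := by
  rcases Nat.eq_zero_or_pos e with h0 | h0
  · exact Or.inl h0
  right
  obtain ⟨f, hf, hd, -, hr⟩ := exists_irred_finrank T hirr (X ^ (Nat.card k ^ e) - X)
    (FiniteField.X_pow_card_pow_sub_X_ne_zero _ h0.ne' Finite.one_lt_card) (by simp [h])
  rw [hr]
  exact hf.natDegree_dvd_of_dvd_X_pow_card_pow_sub_X hd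

theorem card_eq_pow_of_irred_aut' {q : ℕ} [hq : Fact q.Prime] {V : Type*} [CommGroup V] [Finite V]
    [Nontrivial V] [Module (ZMod q) (Additive V)] (φ : MulAut V)
    (hirr : ∀ W : Subgroup V, (∀ w ∈ W, φ w ∈ W) → W = ⊥ ∨ W = ⊤) {e : ℕ} (he : e ≠ 0)
    (hφ : φ ^ (q ^ e) = φ) : ∃ d, d ∣ e ∧ Nat.card V = q ^ d := by
  let ρ : MulAut V →* Module.End (ZMod q) (Additive V) :=
    { toFun := fun g => (MonoidHom.toAdditive g.toMonoidHom).toZModLinearMap q
      map_one' := by ext v; simp
      map_mul' := fun g h => by ext v; simp }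
  haveI : Module.Finite (ZMod q) (Additive V) := Module.Finite.of_finite
  have := finrank_dvd_of_irred (ρ φ) (e := e) (fun W hW => by
    rcases hirr (AddSubgroup.toSubgroup W.toAddSubgroup) (fun w hw => hW _ hw) with h | h
    · left
      rw [eq_bot_iff]; intro w hw
      have : w.toMul ∈ AddSubgroup.toSubgroup W.toAddSubgroup := hw
      rw [h] at this
      exact this
    · right
      rw [eq_top_iff]; intro w _
      have : w.toMul ∈ AddSubgroup.toSubgroup W.toAddSubgroup := h ▸ Subgroup.mem_top _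
      exact this) (by rw [Nat.card_zmod, ← map_pow, hφ])
  refine ⟨_, this.resolve_left he, ?_⟩
  have h2 := Module.natCard_eq_pow_finrank (K := ZMod q) (V := Additive V)
  rw [Nat.card_zmod] at h2
  exact h2

theorem card_eq_pow_of_irred_aut {q : ℕ} [hq : Fact q.Prime] {V : Type*} [Group V] [Finite V]
    [Nontrivial V] [IsMulCommutative V] (hV : ∀ v : V, v ^ q = 1) (φ : MulAut V)
    (hirr : ∀ W : Subgroup V, (∀ w ∈ W, φ w ∈ W) → W = ⊥ ∨ W = ⊤) {e : ℕ} (he : e ≠ 0)
    (hφ : φ ^ (q ^ e) = φ) : ∃ d, d ∣ e ∧ Nat.card V = q ^ d := by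
  let inst : CommGroup V := { (inferInstance : Group V) with mul_comm := mul_comm' }
  let inst2 : Module (ZMod q) (Additive V) := AddCommGroup.zmodModule (n := q) (fun x => by
    change Additive.ofMul (x.toMul ^ q) = 0
    rw [hV]; rfl)
  exact @card_eq_pow_of_irred_aut' q _ V inst _ _ inst2 φ hirr e he hφ

variable {G : Type*} [Group G] [Finite G]

/-- `x` normalizes the elementary abelian `q`-group `A`, irreducibly, and `x ^ (q ^ e)` acts as
`x`: then `|A| = q ^ d` with `d ∣ e`. -/
theorem card_eq_pow_of_irred {q : ℕ} (hq : q.Prime) {A : Subgroup G}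
    (hA : IsElementaryAbelian q A) (h0 : A ≠ ⊥) {x : G} (hx : x ∈ N_(A))
    (hirr : ∀ B ≤ A, x ∈ N_(B) → B = ⊥ ∨ B = A) {e : ℕ} (he : e ≠ 0)
    (h : x ^ (q ^ e - 1) ∈ C_(A)) : ∃ d, d ∣ e ∧ Nat.card A = q ^ d := by
  haveI := Fact.mk hq
  haveI := hA.1
  haveI := (Subgroup.nontrivial_iff_ne_bot A).2 h0
  refine card_eq_pow_of_irred_aut (fun v => Subtype.ext (hA.2 v.1 v.2))
    (Subgroup.normalizerMonoidHom A ⟨x, hx⟩) (fun W hW => ?_) he ?_
  · rcases hirr (W.map A.subtype) (Subgroup.map_subtype_le W) (mem_norm_of_cj_le (by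
      intro y hy
      obtain ⟨z, ⟨w, hw, rfl⟩, rfl⟩ := mem_cj'.1 hy
      exact ⟨_, hW w hw, rfl⟩)) with h1 | h1
    · left; exact (Subgroup.map_eq_bot_iff_of_injective _ A.subtype_injective).1 h1
    · right
      apply Subgroup.map_injective A.subtype_injective
      rw [h1, ← MonoidHom.range_eq_map, Subgroup.range_subtype]
  · have h1 : q ^ e = (q ^ e - 1) + 1 := (Nat.sub_add_cancel (Nat.one_le_pow _ _ hq.pos)).symm
    rw [h1, pow_succ, ← map_pow]
    have : Subgroup.normalizerMonoidHom A ((⟨x, hx⟩ : N_(A)) ^ (q ^ e - 1)) = 1 := by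
      ext a
      have := mem_cent.1 h a.1 a.2
      change x ^ (q ^ e - 1) * a.1 * (x ^ (q ^ e - 1))⁻¹ = a.1
      rw [← this]; group
    rw [this, one_mul]

/-- an element of order `p` acting irreducibly and nontrivially on an elementary abelian
`q`-group `A`: `|A| = q ^ ord_p(q)`. -/
theorem card_eq_pow_orderOf {p q : ℕ} (hp : p.Prime) (hq : q.Prime) (hpq : q ≠ p) {A : Subgroup G}
    (hA : IsElementaryAbelian q A) {x : G} (hx : x ∈ N_(A)) (ho : orderOf x = p)
    (hirr : ∀ B ≤ A, x ∈ N_(B) → B = ⊥ ∨ B = A) (hn : x ∉ C_(A)) :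
    Nat.card A = q ^ orderOf (q : ZMod p) := by
  haveI := Fact.mk hp
  have h0 : A ≠ ⊥ := fun h => hn (by rw [h, cent_bot]; trivial)
  have hu : (q : ZMod p) ≠ 0 := fun h => hpq ((Nat.prime_dvd_prime_iff_eq hp hq).1
    ((ZMod.natCast_eq_zero_iff _ _).1 h)).symm
  have he : orderOf (q : ZMod p) ≠ 0 := by
    have : (q : ZMod p) ^ (p - 1) = 1 := ZMod.pow_card_sub_one_eq_one hu
    exact (isOfFinOrder_iff_pow_eq_one.2 ⟨p - 1, Nat.sub_pos_of_lt hp.one_lt, this⟩).orderOf_pos.ne'
  have key : ∀ n : ℕ, p ∣ q ^ n - 1 ↔ orderOf (q : ZMod p) ∣ n := fun n => by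
    rw [orderOf_dvd_iff_pow_eq_one, ← ZMod.natCast_eq_zero_iff,
      Nat.cast_sub (Nat.one_le_pow _ _ hq.pos), sub_eq_zero]
    push_cast; rfl
  obtain ⟨d, hd, hc⟩ := card_eq_pow_of_irred hq hA h0 hx hirr he (by
    obtain ⟨c, hc⟩ := (key _).2 dvd_rfl
    rw [hc, pow_mul, ← ho, pow_orderOf_eq_one, one_pow]; exact one_mem _)
  have hz : Nat.card (Subgroup.zpowers x) = p := by rw [card_zpowers, ho]
  have hxn : Subgroup.zpowers x ≤ N_(A) := (Subgroup.zpowers_le).2 hx
  have hfix : A ⊓ C_(Subgroup.zpowers x) = ⊥ := by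
    refine (hirr _ inf_le_left ?_).resolve_right (fun h => hn ?_)
    · exact norm_inf hxn (norm_cent (le_norm _)) (Subgroup.mem_zpowers x)
    · exact cent_symm (h.ge.trans inf_le_right) (Subgroup.mem_zpowers x)
  have h1 := (semiregular_prime (hz ▸ hp) hfix).card_dvd hxn
  rw [hz, hc, key] at h1
  rw [hc, Nat.dvd_antisymm hd h1]

theorem isPClosed_iff_sylowIn {p : ℕ} [hp : Fact p.Prime] {H : Subgroup G} :
    IsPClosed p H ↔ ∃ P, IsSylowIn p P H ∧ H ≤ N_(P) := by
  constructor
  · intro h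
    obtain ⟨P⟩ : Nonempty (Sylow p H) := inferInstance
    refine ⟨_, isSylowIn_map hp.out P, le_norm_iff.2 ?_⟩
    rintro a ha _ ⟨k, hk, rfl⟩
    exact ⟨_, (h P).conj_mem k hk ⟨a, ha⟩, rfl⟩
  · rintro ⟨P, hP, hn⟩ Q
    obtain ⟨g, hg, he⟩ := sylow_trans hp.out hP (isSylowIn_map hp.out Q)
    rw [cj_of_mem_norm (hn hg)] at he
    refine ⟨fun k hk a => ?_⟩
    have : (a : G) * k * a⁻¹ ∈ (Q : Subgroup H).map H.subtype := by
      rw [he]; exact conj_mem_of_norm (hn a.2) (he ▸ ⟨k, hk, rfl⟩)
    obtain ⟨y, hy, hy'⟩ := this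
    have : y = a * k * a⁻¹ := Subtype.ext hy'
    exact this ▸ hy

theorem isPClosed_of_normal_sylow {p : ℕ} [hp : Fact p.Prime] (P : Sylow p G)
    (h : (P : Subgroup G).Normal) : IsPClosed p G := fun Q => by
  have : Q = P := ((Sylow.unique_of_normal P h).uniq Q).trans
    ((Sylow.unique_of_normal P h).uniq P).symm
  rw [this]
  exact h

theorem isPClosed_of_pgroup {p : ℕ} [hp : Fact p.Prime] (h : IsPGroup p G) : IsPClosed p G :=
  fun Q => by
    have : (Q : Subgroup G) = ⊤ := (Q.is_maximal' (h.to_subgroup ⊤) le_top).symm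
    rw [this]; infer_instance

/-- if `N` is a normal `p`-subgroup and `G ⧸ N` is `p`-closed, so is `G` -/
theorem isPClosed_of_quot {p : ℕ} [hp : Fact p.Prime] (N : Subgroup G) [N.Normal]
    (hN : IsPGroup p N) (h : IsPClosed p (G ⧸ N)) : IsPClosed p G := by
  obtain ⟨P⟩ : Nonempty (Sylow p (G ⧸ N)) := inferInstance
  haveI := h P
  exact isPClosed_of_normal_sylow
    (P.comapOfKerIsPGroup (QuotientGroup.mk' N) (by rwa [QuotientGroup.ker_mk'])
      (by rw [MonoidHom.range_eq_top.2 (QuotientGroup.mk'_surjective N)]; exact le_top))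
    (Subgroup.Normal.comap inferInstance _)

end H16
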