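import Mathlib
import Cfsg.Agent.BG.Api4
import Cfsg.Agent.BG.Quo2
import Cfsg.Agent.H17.Sec
import Cfsg.Agent.H17.OpMod
import Cfsg.Agent.H03.Frobenius

/-!
# Coprime action on the Frattini quotient and minimal Frobenius sections

* `not_mem_cent_quo_phi`: a `p'`-element acting nontrivially on a `p`-group acts nontrivially on the
  Frattini quotient.
* `exists_frob_sec`: then a group `W ⋊ ⟨z⟩` (`W` elementary abelian, `z` of prime order, fixed-point-free)
  is involved; `exists_frob_sec_of_not_hasNPC` is the case of a group without normal `p`-complement.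
-/

namespace H16

open Subgroup Cfsg BG
open scoped commutatorElement

universe u
variable {G : Type u} [Group G] {p : ℕ}

theorem not_mem_cent_quo_phi [Finite G] [Fact p.Prime] {T : Subgroup G} (hT : IsPGroup p T) {y : G}
    (hy : y ∈ N_(T)) (hc : (orderOf y).Coprime p) (hyC : y ∉ C_(T)) :
    qmk (frattiniOf T) ⟨y, norm_le_norm_phi T hy⟩ ∉ C_(quo (frattiniOf T) T) := by
  intro h
  have hyN : y ∈ N_(frattiniOf T) := norm_le_norm_phi T hy
  apply hyC
  refine H17.mem_centralizer_of_frattini hT hy hc fun x hx => ?_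
  have h1 : quo (frattiniOf T) (zpowers y) ≤ C_(quo (frattiniOf T) T) := by
    rw [quo_zpowers hyN, zpowers_le]; exact h
  exact comm_le_of_quo (zpowers_le.2 hyN) (norm_phi le_normalizer) h1
    (commutator_mem_commutator (mem_zpowers y) hx)

theorem sec_refl (G : Type*) [Group G] : H17.Sec G G :=
  H17.Sec.of_hom (MonoidHom.id G) Function.injective_id (MonoidHom.id G) Function.surjective_id

theorem sec_QT (N : Subgroup G) : H17.Sec (QT N) G :=
  H17.Sec.of_subgroup (H := N_(N)) (H17.Sec.of_surjective (sec_refl _) _ (qmk_surj _))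

theorem mul_pow_mul_inv_mem {W : Subgroup G} {w a : G} (hw : w ∈ W) (ha : a ∈ N_(W)) (n : ℕ) :
    (w * a) ^ n * (a ^ n)⁻¹ ∈ W := by
  induction n with
  | zero => simp
  | succ n ih =>
    have := W.mul_mem hw ((mem_normalizer_iff.1 ha _).1 ih)
    rw [pow_succ', pow_succ' a]
    simpa [mul_assoc] using this

theorem exists_frob_sec_of_elem [Finite G] (hp : p.Prime) {q : ℕ} (hq : q.Prime) (hqp : q ≠ p)
    {V : Subgroup G} (hV : IsElementaryAbelian p V) {y : G} (hy : y ∈ N_(V)) {k : ℕ} (hk : y ^ q ^ k = 1)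
    (hyC : y ∉ C_(V)) : ∃ (X : Type u) (_ : Group X) (_ : Finite X), H17.Sec X G ∧ ∃ (W : Subgroup X) (z : X),
      IsElementaryAbelian p W ∧ Nat.card W ∣ Nat.card V ∧ orderOf z = q ∧ Frob (W ⊔ zpowers z) W (zpowers z) := by
  induction k generalizing y with
  | zero =>
    rw [pow_zero, pow_one] at hk
    exact absurd (hk ▸ one_mem _) hyC
  | succ k ih =>
    by_cases hyq : y ^ q ∈ C_(V)
    swap
    · exact ih (pow_mem hy q) (by rw [← pow_mul, ← pow_succ', hk]) hyq
    haveI : Fact q.Prime := ⟨hq⟩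
    have hVp : IsPGroup p V := fun v => ⟨1, Subtype.ext (by simpa using hV.2 v v.2)⟩
    have hY : IsPGroup q (zpowers y) := by
      obtain ⟨j, -, hj⟩ := (Nat.dvd_prime_pow hq).1 (orderOf_dvd_of_pow_eq_one hk)
      exact IsPGroup.of_card (by rw [Nat.card_zpowers, hj])
    have hcop := pg_coprime_ne hq hp hY hVp hqp
    have hd := coprime_abelian_dprod (zpowers_le.2 hy) hcop hV.1
    have hWV : ⁅V, zpowers y⁆ ≤ V := le_sup_right.trans hd.sup.le
    have hW0 : ⁅V, zpowers y⁆ ≠ ⊥ := by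
      intro h
      rw [commutator_comm, commutator_eq_bot_iff_le_centralizer, zpowers_le] at h
      exact hyC h
    have hyW : y ∈ N_(⁅V, zpowers y⁆) := right_le_norm_comm _ _ (mem_zpowers y)
    set W := ⁅V, zpowers y⁆ with hW
    have hWN : W ≤ N_(zpowers (y ^ q)) := by
      refine le_trans ?_ (centralizer_le_normalizer _)
      rw [le_centralizer_iff, zpowers_le]; exact cent_anti hWV hyq
    have hyN : y ∈ N_(zpowers (y ^ q)) := by
      refine centralizer_le_normalizer _ ?_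
      rw [cent_zpowers, mem_cent1]; exact (Commute.self_pow y q).eq
    have hdis : zpowers (y ^ q) ⊓ W = ⊥ :=
      (disjoint_of_coprime_natCard (coprime_mono hcop (zpowers_le.2 (pow_mem (mem_zpowers y) q)) hWV)).eq_bot
    have hfix : quo (zpowers (y ^ q)) W ⊓ C_[qmk _ ⟨y, hyN⟩] = ⊥ := by
      rw [eq_bot_iff]
      rintro _ ⟨hw, hw'⟩
      obtain ⟨w, hwW, hwn, rfl⟩ := mem_quo.1 hw
      have h2 := mem_cent1.1 hw'
      rw [← qmk_mul, ← qmk_mul, qmk_eq_iff] at h2
      have h3 : (w * y)⁻¹ * (y * w) ∈ zpowers (y ^ q) ⊓ W := by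
        refine mem_inf.2 ⟨h2, ?_⟩
        have := W.mul_mem ((mem_normalizer_iff.1 (inv_mem hyW) _).1 (W.inv_mem hwW)) hwW
        simpa [mul_assoc] using this
      rw [hdis, mem_bot, inv_mul_eq_one] at h3
      have h4 : w ∈ (V ⊓ C_(zpowers y)) ⊓ W := by
        refine mem_inf.2 ⟨mem_inf.2 ⟨hWV hwW, ?_⟩, hwW⟩
        rw [cent_zpowers, mem_cent1]; exact h3
      rw [hd.disj, mem_bot] at h4
      subst h4
      exact mem_bot.2 (map_one _)
    have hq0 : quo (zpowers (y ^ q)) W ≠ ⊥ := quo_ne_bot hWN fun h => hW0 (by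
      rw [← hdis]; exact (inf_eq_right.2 h).symm)
    have hz : orderOf (qmk _ ⟨y, hyN⟩) = q := by
      apply orderOf_eq_prime
      · rw [← qmk_pow, qmk_eq_one]; exact mem_zpowers _
      · intro h
        rw [h] at hfix
        apply hq0
        rw [← hfix]; exact (inf_eq_left.2 fun x _ => mem_cent1.2 (by simp)).symm
    refine ⟨QT (zpowers (y ^ q)), inferInstance, inferInstance, sec_QT _, quo _ W, qmk _ ⟨y, hyN⟩, ?_, ?_, hz, ?_⟩
    · refine ⟨abelian_iff.2 (quo_le_cent _ (hWV.trans ((abelian_iff.1 hV.1).trans (cent_anti hWV)))), ?_⟩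
      intro a ha
      obtain ⟨w, hwW, hwn, rfl⟩ := mem_quo.1 ha
      rw [← qmk_pow, qmk_eq_one]
      show w ^ p ∈ _
      rw [hV.2 w (hWV hwW)]; exact one_mem _
    · exact (card_quo_dvd _ _).trans (card_dvd_of_le hWV)
    · refine frob_sup (zpowers_le.2 (qmk_mem_norm hyN hyW)) hq0 (zpowers_ne_bot ?_)
        (semiregular_prime (by rw [Nat.card_zpowers, hz]; exact hq) (by rw [cent_zpowers]; exact hfix))
      intro h
      rw [h, orderOf_one] at hz
      exact hq.one_lt.ne hz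

theorem exists_frob_sec [Finite G] (hp : p.Prime) {q : ℕ} (hq : q.Prime) (hqp : q ≠ p)
    {T : Subgroup G} (hT : IsPGroup p T) {y : G} (hy : y ∈ N_(T)) {k : ℕ} (hk : y ^ q ^ k = 1)
    (hyC : y ∉ C_(T)) : ∃ (X : Type u) (_ : Group X) (_ : Finite X), H17.Sec X G ∧ ∃ (W : Subgroup X) (z : X),
      IsElementaryAbelian p W ∧ Nat.card W ∣ Nat.card (quo (frattiniOf T) T) ∧ orderOf z = q ∧
        Frob (W ⊔ zpowers z) W (zpowers z) := by
  haveI : Fact p.Prime := ⟨hp⟩
  have hc : (orderOf y).Coprime p :=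
    (Nat.Coprime.pow_left k ((Nat.coprime_primes hq hp).2 hqp)).coprime_dvd_left (orderOf_dvd_of_pow_eq_one hk)
  obtain ⟨X, _, _, hX, h⟩ := exists_frob_sec_of_elem hp hq hqp (elem_quo_frattiniOf hT)
    (qmk_mem_norm (norm_le_norm_phi T hy) hy) (k := k)
    (by rw [← map_pow]; exact qmk_eq_one.2 (by simp [hk])) (not_mem_cent_quo_phi hT hy hc hyC)
  exact ⟨X, _, inferInstance, hX.trans (sec_QT _), h⟩

theorem exists_frob_sec_of_not_hasNPC [Finite G] [hp : Fact p.Prime] (h : ¬ HasNormalPComplement p G) :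
    ∃ q : ℕ, q.Prime ∧ q ≠ p ∧ ∃ (X : Type u) (_ : Group X) (_ : Finite X), H17.Sec X G ∧
      ∃ (W : Subgroup X) (z : X), IsElementaryAbelian p W ∧ orderOf z = q ∧
        Frob (W ⊔ zpowers z) W (zpowers z) := by
  obtain ⟨P⟩ : Nonempty (Sylow p G) := inferInstance
  obtain ⟨D, hDP, -, -, q, hq, hqp, g, hg, ⟨k, hk⟩, hgC⟩ := H03.exists_not_commute_of_not_hasNPC P h
  obtain ⟨X, _, _, hX, W, z, h1, -, h2⟩ := exists_frob_sec hp.out hq hqp (P.isPGroup'.to_le hDP) hg (k := k)
    (hk ▸ pow_orderOf_eq_one g) hgC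
  exact ⟨q, hq, hqp, X, _, inferInstance, hX, W, z, h1, h2⟩

end H16
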