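import Mathlib
import Cfsg.Agent.BG.Api4
import Cfsg.Prelude.Def_HallClasses

/-!
# Pronormal overgroups of Sylow subgroups

* `Prn H M`: `H` is pronormal in `M` (ambient form); `YP p G`: every overgroup of a Sylow `p`-subgroup is
  pronormal; `YIn p M` is its ambient form.
* transfer along surjections, and the key lemma `conj_of_mem_normal` of Guo–Maslova–Revin.
-/

namespace H16

open Subgroup Cfsg BG

variable {G : Type*} [Group G] {p : ℕ}

/-- `H` is pronormal in `M`. -/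
def Prn (H M : Subgroup G) : Prop := ∀ g ∈ M, ∃ x ∈ H ⊔ cj g H, cj g H = cj x H

/-- Every overgroup of a Sylow `p`-subgroup is pronormal. -/
def YP (p : ℕ) (G : Type*) [Group G] : Prop :=
  ∀ K : Subgroup G, (∃ P : Sylow p G, (P : Subgroup G) ≤ K) → IsPronormal K

/-- Ambient form of `YP`. -/
def YIn (p : ℕ) (M : Subgroup G) : Prop :=
  ∀ H ≤ M, (∃ P, IsSylowIn p P M ∧ P ≤ H) → Prn H M

theorem prn_top {H : Subgroup G} : Prn H ⊤ ↔ IsPronormal H :=
  ⟨fun h g => h g (mem_top g), fun h g _ => h g⟩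

theorem map_cj {G' : Type*} [Group G'] (f : G →* G') (g : G) (H : Subgroup G) :
    (cj g H).map f = cj (f g) (H.map f) := by
  rw [cj, cj, map_map, map_map]
  congr 1
  ext x; simp

theorem IsPronormal.map {G' : Type*} [Group G'] {H : Subgroup G} (h : IsPronormal H) (f : G →* G')
    (hf : Function.Surjective f) : IsPronormal (H.map f) := by
  intro g
  obtain ⟨g, rfl⟩ := hf g
  obtain ⟨x, hx, e⟩ := prn_top.2 h g (mem_top g)
  refine ⟨f x, ?_, ?_⟩
  · have := mem_map_of_mem f hx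
    rwa [Subgroup.map_sup, map_cj] at this
  · have := congrArg (Subgroup.map f) e
    rwa [map_cj, map_cj] at this

theorem comap_cj {G' : Type*} [Group G'] (f : G →* G') (g : G) (K : Subgroup G') :
    (cj (f g) K).comap f = cj g (K.comap f) := by
  ext x
  simp [mem_cj]

theorem IsPronormal.comap {G' : Type*} [Group G'] {K : Subgroup G'} (h : IsPronormal K) (f : G →* G')
    (hf : Function.Surjective f) : IsPronormal (K.comap f) := by
  intro g
  obtain ⟨x, hx, e⟩ := prn_top.2 h (f g) (mem_top _)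
  obtain ⟨x, rfl⟩ := hf x
  refine ⟨x, ?_, ?_⟩
  · have : x ∈ (K ⊔ cj (f g) K).comap f := hx
    rwa [← comap_sup_eq f _ _ hf, comap_cj] at this
  · have := congrArg (Subgroup.comap f) e
    rwa [comap_cj, comap_cj] at this

theorem prn_map_subtype {M : Subgroup G} {K : Subgroup M} : Prn (K.map M.subtype) M ↔ IsPronormal K := by
  constructor
  · intro h g
    obtain ⟨x, hx, e⟩ := h g g.2
    have e1 : cj (g : G) (K.map M.subtype) = (cj g K).map M.subtype := (map_cj M.subtype g K).symm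
    rw [e1, ← Subgroup.map_sup] at hx
    obtain ⟨y, hy, rfl⟩ := hx
    refine ⟨y, hy, map_injective M.subtype_injective ?_⟩
    exact (map_cj M.subtype g K).trans (e.trans (map_cj M.subtype y K).symm)
  · intro h g hg
    obtain ⟨x, hx, e⟩ := prn_top.2 h ⟨g, hg⟩ (mem_top _)
    refine ⟨x, ?_, ?_⟩
    · have := mem_map_of_mem M.subtype hx
      rwa [Subgroup.map_sup, map_cj] at this
    · have := congrArg (Subgroup.map M.subtype) e
      rwa [map_cj, map_cj] at this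

theorem yIn_iff [Finite G] (hp : p.Prime) {M : Subgroup G} : YIn p M ↔ YP p M := by
  constructor
  · rintro h K ⟨P, hP⟩
    exact prn_map_subtype.1 (h _ (map_subtype_le K) ⟨_, isSylowIn_map hp P, map_mono hP⟩)
  · rintro h H hH ⟨P, hP, hPH⟩
    obtain ⟨Q, rfl⟩ := hP.exists_sylow hp
    rw [← map_subgroupOf_eq_of_le hH]
    exact prn_map_subtype.2 (h _ ⟨Q, map_le_iff_le_comap.1 hPH⟩)

theorem yIn_top [Finite G] (hp : p.Prime) : YIn p (⊤ : Subgroup G) ↔ YP p G := by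
  constructor
  · rintro h K ⟨P, hP⟩
    exact prn_top.1 (h K le_top ⟨_, isSylowIn_top hp P, hP⟩)
  · rintro h H - ⟨P, hP, hPH⟩
    obtain ⟨Q, rfl⟩ := hP.exists_sylow_top hp
    exact prn_top.2 (h _ ⟨Q, hPH⟩)

theorem YP.of_surjective [Finite G] [Fact p.Prime] {G' : Type*} [Group G'] (h : YP p G) (f : G →* G')
    (hf : Function.Surjective f) : YP p G' := by
  rintro K ⟨P, hP⟩
  obtain ⟨Q, rfl⟩ := Sylow.mapSurjective_surjective hf p P
  rw [← map_comap_eq_self_of_surjective hf K]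
  exact IsPronormal.map (h _ ⟨Q, map_le_iff_le_comap.1 hP⟩) f hf

theorem YP.of_quotient [Finite G] [Fact p.Prime] {G' : Type*} [Group G'] (f : G →* G')
    (hf : Function.Surjective f) (hker : IsPGroup p f.ker) (h : YP p G') : YP p G := by
  rintro K ⟨P, hP⟩
  have h1 : f.ker ≤ K := (hker.le_sylow_of_normal P).trans hP
  rw [← comap_map_eq_self h1]
  exact IsPronormal.comap (h _ ⟨P.mapSurjective hf, map_mono hP⟩) f hf

theorem Prn.cj {H M : Subgroup G} (h : Prn H M) (a : G) : Prn (cj a H) (cj a M) := by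
  intro g hg
  obtain ⟨g, hg', rfl⟩ := mem_cj'.1 hg
  obtain ⟨x, hx, e⟩ := h g hg'
  refine ⟨a * x * a⁻¹, ?_, ?_⟩
  · have := conj_mem_cj a hx
    rw [cj_sup] at this
    simpa [cj_cj] using this
  · simp only [cj_cj, inv_mul_cancel_right]
    rw [← cj_cj, e, cj_cj]

theorem YIn.cj {M : Subgroup G} (h : YIn p M) (a : G) : YIn p (cj a M) := by
  rintro H hH ⟨P, hP, hPH⟩
  have := (h (BG.cj a⁻¹ H) (le_cj_iff.1 hH) ⟨_, by simpa [cj_inv_cj] using hP.cj a⁻¹, cj_mono _ hPH⟩).cj a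
  rwa [cj_cj_inv] at this

/-- The key lemma: `H ⊇ S ∈ Syl_p(G)` is conjugate to `aHa⁻¹` in the join for `a ∈ A`. -/
theorem conj_of_mem_normal [Finite G] (hp : p.Prime) {A S H : Subgroup G} [A.Normal] (hA : YIn p A)
    (hS : IsSylowIn p S ⊤) (hSH : S ≤ H) (hX : YIn p N_(S ⊓ A)) : Prn H A := by
  intro g hg
  have hAn : ∀ X : Subgroup G, X ≤ N_(A) := fun X => le_normalizer_of_normal
  have hT : IsSylowIn p (S ⊓ A) A := hS.inf_normal le_top (hAn _)
  obtain ⟨x, hx, e⟩ := hA (H ⊓ A) inf_le_right ⟨_, hT, inf_le_inf_right _ hSH⟩ g hg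
  have hxA : x ∈ A := (sup_le inf_le_right (cj_le_of_mem inf_le_right hg) : _ ≤ A) hx
  have hxL : x ∈ H ⊔ cj g H := sup_le_sup inf_le_left (cj_mono _ inf_le_left) hx
  have hg' : x⁻¹ * g ∈ N_(H ⊓ A) := cj_eq_cj_iff.1 e
  have hTU : IsSylowIn p (S ⊓ A) (H ⊓ A) := hT.sub (inf_le_inf_right _ hSH) inf_le_right
  have hfr := sylow_frattini (M := A ⊓ N_(H ⊓ A)) hp hTU (le_inf inf_le_right le_normalizer) inf_le_right
  have hg'' : x⁻¹ * g ∈ A ⊓ N_(H ⊓ A) := ⟨A.mul_mem (A.inv_mem hxA) hg, hg'⟩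
  rw [← hfr, sup_comm] at hg''
  obtain ⟨n, ⟨⟨-, hnU⟩, hnT⟩, u, hu, hnu⟩ := (mem_sup_norm' (inf_le_left.trans inf_le_right)).1 hg''
  have hHU : H ≤ N_(H ⊓ A) := norm_inf le_normalizer (hAn _)
  have hfr2 := sylow_frattini (M := H) hp hTU inf_le_left hHU
  have hSN : S ≤ N_(S ⊓ A) := norm_inf le_normalizer (hAn _)
  obtain ⟨y, hy, e2⟩ := hX (H ⊓ N_(S ⊓ A)) inf_le_right ⟨S, hS.sub hSN le_top, le_inf hSH hSN⟩ n hnT
  have hy1 : y ∈ H ⊔ cj n H := sup_le_sup inf_le_left (cj_mono _ inf_le_left) hy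
  have hyU : y ∈ N_(H ⊓ A) := (sup_le hHU (cj_le_of_mem hHU hnU) : _ ≤ N_(H ⊓ A)) hy1
  have e3 : cj n H = cj y H := by
    conv_lhs => rw [← hfr2, cj_sup, cj_of_mem_norm hnU, e2]
    conv_rhs => rw [← hfr2, cj_sup, cj_of_mem_norm hyU]
  have e4 : cj g H = cj x (cj n H) := by
    rw [cj_cj, ← cj_mul_of_mem_norm (g := x * n) (le_normalizer hu.1), mul_assoc, hnu, mul_inv_cancel_left]
  refine ⟨x * y, mul_mem hxL ((sup_le le_sup_left ?_ : _ ≤ H ⊔ cj g H) hy1), by rw [e4, e3, cj_cj]⟩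
  have : cj n H = cj x⁻¹ (cj g H) := by rw [e4, cj_inv_cj]
  rw [this]
  exact cj_le_of_mem le_sup_right (inv_mem hxL)

theorem yp_ext_iff [Finite G] [hp : Fact p.Prime] (A : Subgroup G) [A.Normal] (hA : YP p A) (hQ : YP p (G ⧸ A))
    {T : Subgroup G} (hT : IsSylowIn p T A) : YP p G ↔ YP p N_(T) ∧
      ∀ K : Subgroup G, (∃ P : Sylow p G, (P : Subgroup G) ≤ K) →
        N_(K).map (QuotientGroup.mk' A) = N_(K.map (QuotientGroup.mk' A)) := by
  have hAn : ∀ X : Subgroup G, X ≤ N_(A) := fun X => le_normalizer_of_normal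
  have hπ := QuotientGroup.mk'_surjective A
  constructor
  · intro h
    refine ⟨(yIn_iff hp.out).1 ?_, fun K hK => le_antisymm (le_normalizer_map _) ?_⟩
    · rintro H - ⟨P, hP, hPH⟩ g _
      have h1 : IsSylowIn p P ⊤ := by
        refine hP.trans_idx le_top ?_
        have hfr := sylow_frattini (M := ⊤) hp.out hT le_top (hAn _)
        rw [top_inf_eq] at hfr
        have h0 := relIndex_sup' (K := A) (H := N_(T)) (hAn _)
        rw [hfr] at h0
        rw [h0]
        exact fun hd => hT.not_dvd' hp.out (hd.trans (relIndex_dvd_of_le_left _ le_normalizer))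
      exact (yIn_top hp.out).2 h H le_top ⟨P, h1, hPH⟩ g (mem_top g)
    · intro y hy
      obtain ⟨g, rfl⟩ := hπ y
      obtain ⟨x, hx, e⟩ := prn_top.2 (h K hK) g (mem_top g)
      have h1 : QuotientGroup.mk' A x ∈ K.map (QuotientGroup.mk' A) := by
        have := mem_map_of_mem (QuotientGroup.mk' A) hx
        rwa [Subgroup.map_sup, map_cj, cj_of_mem_norm hy, sup_idem] at this
      have h2 := mul_mem (map_mono le_normalizer h1) (mem_map_of_mem (QuotientGroup.mk' A) (cj_eq_cj_iff.1 e))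
      rwa [← map_mul, mul_inv_cancel_left] at h2
  · rintro ⟨h1, h2⟩ H ⟨S, hS⟩ g
    have hS' := isSylowIn_top hp.out S
    have hT' : IsSylowIn p ((S : Subgroup G) ⊓ A) A := hS'.inf_normal le_top (hAn _)
    obtain ⟨a, -, ha⟩ := sylow_trans hp.out hT hT'
    have hX : YIn p N_((S : Subgroup G) ⊓ A) := by
      rw [ha, ← cj_norm]; exact ((yIn_iff hp.out).2 h1).cj a
    have key := conj_of_mem_normal hp.out ((yIn_iff hp.out).2 hA) hS' hS hX
    obtain ⟨x, hx, e⟩ := prn_top.2 (hQ _ ⟨S.mapSurjective hπ, map_mono hS⟩) (QuotientGroup.mk' A g) (mem_top _)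
    change x ∈ H.map _ ⊔ cj _ (H.map _) at hx
    change cj _ (H.map _) = cj _ (H.map _) at e
    rw [← map_cj, ← Subgroup.map_sup] at hx
    obtain ⟨x, hxL, rfl⟩ := hx
    have h3 := cj_eq_cj_iff.1 e
    rw [← h2 H ⟨S, hS⟩] at h3
    obtain ⟨n, hn, e2⟩ := h3
    have h4 : x⁻¹ * g * n⁻¹ ∈ A := by
      rw [← QuotientGroup.eq_one_iff, ← QuotientGroup.mk'_apply, map_mul, map_mul, map_inv, map_inv, e2]
      simp
    obtain ⟨y, hy, e3⟩ := key _ h4
    rw [cj_mul_of_mem_norm (inv_mem hn)] at hy e3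
    refine ⟨x * y, mul_mem hxL ((sup_le le_sup_left ?_ : _ ≤ H ⊔ cj g H) hy), ?_⟩
    · rw [← cj_cj]; exact cj_le_of_mem le_sup_right (inv_mem hxL)
    · change cj g H = cj (x * y) H
      rw [← cj_cj, ← e3, cj_cj, mul_inv_cancel_left]

end H16
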