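import Mathlib
import Cfsg.Agent.H16.Sl4B
import Cfsg.Agent.H12.F6D
import Cfsg.Agent.H04.X64b

/-! # The normaliser of `4 ∘ 2^{1+4}` as a frame stabiliser: tables `sf`, `pw`, `L2_T`, `sep` -/

set_option autoImplicit false
open Cfsg Matrix Cfsg.Geo Module H10 H04.X64
open scoped MatrixGroups

namespace H16.Kl

variable {F : Type*} [Field F] {i : F}

/-- the standard frame -/
def sf (i : F) : Fin 6 → Fin 3 ⊕ Fin 3 → F := ![Sum.elim ![1, 0, 0] ![1, 0, 0], Sum.elim ![0, 1, 0] ![0, 1, 0],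
  Sum.elim ![0, 0, 1] ![0, 0, 1], Sum.elim ![i, 0, 0] ![-i, 0, 0], Sum.elim ![0, i, 0] ![0, -i, 0], Sum.elim ![0, 0, i] ![0, 0, -i]]

/-- the generators -/
def TT (F : Type*) [Field F] : Fin 4 → Matrix (Fin 4) (Fin 4) F := ![Z1 F, Z2 F, X1 F, X2 F]

/-- their characters -/
def ch : Fin 4 → Fin 6 → Bool := ![![true, false, false, true, false, false], ![false, true, false, false, true, false],
  ![true, false, false, false, false, true], ![false, false, true, false, true, false]]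

theorem sep : ∀ j k, (∀ t, ch t j = ch t k) → j = k := by decide

theorem L2_T (t : Fin 4) (k : Fin 6) : L2 (TT F t) *ᵥ sf i k = (if ch t k then 1 else -1 : F) • sf i k := by
  fin_cases t <;> fin_cases k <;> ext (a | a) <;> fin_cases a <;>
    simp [TT, ch, sf, L2, pa6, pb6, Z1, Z2, X1, X2, mulVec, dotProduct, Fin.sum_univ_three]

theorem det_T (t : Fin 4) : (TT F t).det = 1 := by
  fin_cases t <;> simp [TT, Z1, Z2, X1, X2, Matrix.det_succ_row_zero, Fin.sum_univ_succ, Fin.succAbove]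

theorem tot_sf (h2 : (2 : F) ≠ 0) (hi : i ^ 2 = -1) {x} (h : ∀ k, (φ6 F).B (sf i k) x = 0) : x = 0 := by
  have a0 := h 0; have a1 := h 1; have a2 := h 2; have a3 := h 3; have a4 := h 4; have a5 := h 5
  simp [B6, sf] at a0 a1 a2 a3 a4 a5
  ext (a | a) <;> fin_cases a <;> simp <;> grind

theorem Q_sf (hi : i ^ 2 = -1) (k : Fin 6) : (φ6 F).Q (sf i k) = 1 := by
  fin_cases k <;> simp [Q6, sf] <;> grind

theorem B_sf {j k : Fin 6} (h : j ≠ k) : (φ6 F).B (sf i j) (sf i k) = 0 := by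
  fin_cases j <;> fin_cases k <;> simp [B6, sf] at h ⊢

theorem T_eq (t : Fin 4) : ∃ j k, alt6 (sf i j) * du (sf i k) = i • TT F t := by
  fin_cases t
  exacts [⟨0, 3, by simp [alt6, du, sf, TT, Z1]⟩, ⟨1, 4, by simp [alt6, du, sf, TT, Z2]⟩,
    ⟨0, 5, by simp [alt6, du, sf, TT, X1]⟩, ⟨2, 4, by simp [alt6, du, sf, TT, X2]⟩]

/-- multiplication table -/
def tb : Fin 6 → Fin 6 → ℕ × ℕ × ℕ × ℕ × ℕ := ![![(2, 0, 0, 0, 0), (2, 1, 0, 1, 1), (0, 1, 1, 1, 0), (1, 1, 0, 0, 0), (3, 1, 1, 1, 1), (1, 0, 0, 1, 0)],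
  ![(0, 1, 0, 1, 1), (2, 0, 0, 0, 0), (2, 0, 1, 0, 1), (1, 0, 0, 1, 1), (1, 0, 1, 0, 0), (3, 1, 0, 0, 1)],
  ![(2, 1, 1, 1, 0), (0, 0, 1, 0, 1), (2, 0, 0, 0, 0), (3, 0, 1, 1, 0), (1, 0, 0, 0, 1), (1, 1, 1, 0, 0)],
  ![(3, 1, 0, 0, 0), (3, 0, 0, 1, 1), (1, 0, 1, 1, 0), (2, 0, 0, 0, 0), (0, 0, 1, 1, 1), (2, 1, 0, 1, 0)],
  ![(1, 1, 1, 1, 1), (3, 0, 1, 0, 0), (3, 0, 0, 0, 1), (2, 0, 1, 1, 1), (2, 0, 0, 0, 0), (0, 1, 1, 0, 1)],
  ![(3, 0, 0, 1, 0), (1, 1, 0, 0, 1), (3, 1, 1, 0, 0), (0, 1, 0, 1, 0), (2, 1, 1, 0, 1), (2, 0, 0, 0, 0)]]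

theorem one4 : (1 : Matrix (Fin 4) (Fin 4) F) = !![1, 0, 0, 0; 0, 1, 0, 0; 0, 0, 1, 0; 0, 0, 0, 1] := by
  ext a b; fin_cases a <;> fin_cases b <;> simp

theorem pw (hi : i ^ 2 = -1) (j k : Fin 6) : alt6 (sf i j) * du (sf i k) = i ^ (tb j k).1 •
    (Z1 F ^ (tb j k).2.1 * Z2 F ^ (tb j k).2.2.1 * X1 F ^ (tb j k).2.2.2.1 * X2 F ^ (tb j k).2.2.2.2) := by
  have h3 : i ^ 3 = -i := by grind
  have h1 : i * i = -1 := by grind
  fin_cases j <;> fin_cases k <;> simp [tb, alt6, du, sf, Z1, Z2, X1, X2, one4, hi, h3, h1]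

end H16.Kl
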