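import Cfsg.Agent.H16.Su3f

/-!
# Small exceptions in `SU_3(5)`, VII : the 36 points of `M_10`
-/

namespace Cfsg.Agent.H16.Su3
open Matrix Module Cfsg Cfsg.Geo Subgroup H10 H10.As

/-- the points -/
def S36 : Fin 36 → Fin 3 → K5 :=
  ![![⟨1,0⟩, ⟨0,1⟩, ⟨1,2⟩], ![⟨1,0⟩, ⟨0,1⟩, ⟨2,1⟩], ![⟨1,0⟩, ⟨0,1⟩, ⟨3,4⟩],
    ![⟨1,0⟩, ⟨0,1⟩, ⟨4,1⟩], ![⟨1,0⟩, ⟨1,0⟩, ⟨1,4⟩], ![⟨1,0⟩, ⟨1,0⟩, ⟨3,4⟩],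
    ![⟨1,0⟩, ⟨1,0⟩, ⟨4,1⟩], ![⟨1,0⟩, ⟨1,0⟩, ⟨4,3⟩], ![⟨1,0⟩, ⟨1,2⟩, ⟨0,1⟩],
    ![⟨1,0⟩, ⟨1,2⟩, ⟨4,4⟩], ![⟨1,0⟩, ⟨1,3⟩, ⟨1,3⟩], ![⟨1,0⟩, ⟨1,3⟩, ⟨2,3⟩],
    ![⟨1,0⟩, ⟨1,4⟩, ⟨1,0⟩], ![⟨1,0⟩, ⟨1,4⟩, ⟨4,4⟩], ![⟨1,0⟩, ⟨2,1⟩, ⟨0,1⟩],
    ![⟨1,0⟩, ⟨2,1⟩, ⟨4,4⟩], ![⟨1,0⟩, ⟨2,3⟩, ⟨1,3⟩], ![⟨1,0⟩, ⟨2,3⟩, ⟨2,4⟩],
    ![⟨1,0⟩, ⟨2,4⟩, ⟨2,3⟩], ![⟨1,0⟩, ⟨2,4⟩, ⟨2,4⟩], ![⟨1,0⟩, ⟨3,1⟩, ⟨3,2⟩],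
    ![⟨1,0⟩, ⟨3,1⟩, ⟨4,2⟩], ![⟨1,0⟩, ⟨3,2⟩, ⟨3,1⟩], ![⟨1,0⟩, ⟨3,2⟩, ⟨3,2⟩],
    ![⟨1,0⟩, ⟨3,4⟩, ⟨0,1⟩], ![⟨1,0⟩, ⟨3,4⟩, ⟨1,0⟩], ![⟨1,0⟩, ⟨4,1⟩, ⟨0,1⟩],
    ![⟨1,0⟩, ⟨4,1⟩, ⟨1,0⟩], ![⟨1,0⟩, ⟨4,2⟩, ⟨3,1⟩], ![⟨1,0⟩, ⟨4,2⟩, ⟨4,2⟩],
    ![⟨1,0⟩, ⟨4,3⟩, ⟨1,0⟩], ![⟨1,0⟩, ⟨4,3⟩, ⟨4,4⟩], ![⟨1,0⟩, ⟨4,4⟩, ⟨1,2⟩],
    ![⟨1,0⟩, ⟨4,4⟩, ⟨1,4⟩], ![⟨1,0⟩, ⟨4,4⟩, ⟨2,1⟩], ![⟨1,0⟩, ⟨4,4⟩, ⟨4,3⟩]]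

/-- cube roots of unity -/
def pw3 : Fin 3 → K5 := ![1, ⟨0, 1⟩, ⟨4, 4⟩]

/-- the extraspecial group -/
def RR (u : Fin 3 × Fin 3 × Fin 3) : Matrix (Fin 3) (Fin 3) K5 :=
  of fun i j => if i = j + u.2.2 then pw3 (u.1 + u.2.1 * i) else 0

/-- its action on vectors -/
def act (u : Fin 3 × Fin 3 × Fin 3) (v : Fin 3 → K5) : Fin 3 → K5 := fun i => pw3 (u.1 + u.2.1 * i) * v (i - u.2.2)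

/-- a fixed vector -/
def v0 (u : Fin 3 × Fin 3 × Fin 3) : Fin 3 → K5 :=
  if u.2.2 = 0 then fun i => if u.1 + u.2.1 * i = 0 then 1 else 0
  else fun i => if i = 0 then 1 else if i = u.2.2 then pw3 (u.1 + u.2.1 * i) else pw3 (u.1 + u.1 + u.2.1 * (i + u.2.2))

/-- the normalising matrices -/
def WW (u v : Fin 3 × Fin 3 × Fin 3) : Matrix (Fin 3) (Fin 3) K5 :=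
  of fun i j => ![v0 u, act v (v0 u), act v (act v (v0 u))] j i

theorem rr_inj : Function.Injective RR := by
  intro u v; revert u v; decide +kernel

theorem rr_eq : ∀ u : Fin 3 × Fin 3 × Fin 3,
    RR (1, 0, 0) ^ u.1.1 * RR (0, 1, 0) ^ u.2.1.1 * RR (0, 0, 1) ^ u.2.2.1 = RR u := by decide +kernel

theorem rr_comm : ∀ u v : Fin 3 × Fin 3 × Fin 3, RR u * RR v = (⟨0, 1⟩ : K5) • (RR v * RR u) →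
    u.2.1 * v.2.2 = u.2.2 * v.2.1 + 1 := by decide +kernel

theorem ww1 : ∀ u v : Fin 3 × Fin 3 × Fin 3, u.2.1 * v.2.2 = u.2.2 * v.2.1 + 1 →
    WW u v * RR (0, 1, 0) = RR u * WW u v ∧ WW u v * RR (0, 0, 1) = RR v * WW u v ∧ det (WW u v) ≠ 0 := by
  simp only [det_fin_three]; decide +kernel

theorem ww2 : ∀ u v : Fin 3 × Fin 3 × Fin 3, u.2.1 * v.2.2 = u.2.2 * v.2.1 + 1 → det (WW u v) ^ 8 = 1 →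
    ∀ k, ∃ l, WW u v *ᵥ S36 k = (WW u v *ᵥ S36 k) 0 • S36 l := by
  simp only [det_fin_three]; decide +kernel

end Cfsg.Agent.H16.Su3
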