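import Mathlib
import Cfsg.Agent.BG.Api4
import Cfsg.Agent.BG.Quo1

/-! Lemmas on TI-subgroups of `p`-groups and on tightly embedded subgroups (ambient style). -/

namespace H16
open BG Cfsg

variable {G : Type*} [Group G] [Finite G]

theorem nil_exists_normal_over {H X : Subgroup G} (hX : Group.IsNilpotent X) (h : H < X) :
    ∃ M, H ≤ M ∧ M < X ∧ X ≤ N_(M) := by
  obtain ⟨M, hle, hM⟩ := exists_maximal_ge_of_wellFoundedGT (fun M : Subgroup G => M < X) H h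
  refine ⟨M, hle, hM.prop, ?_⟩
  have h1 := nil_lt_norm hX hM.prop
  by_contra h2
  have h3 : X ⊓ N_(M) < X := lt_of_le_of_ne inf_le_left fun e => h2 (e.ge.trans inf_le_right)
  exact h1.not_ge (hM.le_of_ge h3 h1.le)

/-- `B` a TI `p`-subgroup normalizing the `p`-subgroup `A` with `|A| ≤ |B|` and `A ∩ B = 1`. -/
theorem ti_cent_of_norm {p : ℕ} (hp : p.Prime) {A B : Subgroup G} (hA : IsPGroup p A)
    (hB : IsPGroup p B) (hti : ∀ a ∈ A, cj a B = B ∨ cj a B ⊓ B = ⊥)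
    (hle : Nat.card A ≤ Nat.card B) (hAB : A ⊓ B = ⊥) (hN : B ≤ N_(A)) : A ≤ C_(B) := by
  by_cases h : A ≤ N_(B)
  · exact le_cent_of_disj h hN hAB
  exfalso
  set N := A ⊓ N_(B)
  have hNB : N ≤ N_(B) := inf_le_right
  have hlt : B ⊔ N < A ⊔ B := by
    refine lt_of_le_of_ne (sup_le le_sup_right (inf_le_left.trans le_sup_left)) fun e => h ?_
    exact (le_sup_left.trans e.ge).trans (sup_le_norm_left hNB)
  obtain ⟨g, hg, hg'⟩ := SetLike.exists_of_lt (nil_lt_norm (pg_nil hp (pg_sup hA hB hN)) hlt)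
  obtain ⟨a, ha, b, hb, rfl⟩ := (mem_sup_norm hN).1 hg.1
  have h1 : a ∈ N_(B ⊔ N) := by
    have := N_(B ⊔ N).mul_mem hg.2 (N_(B ⊔ N).inv_mem (le_norm _ (Subgroup.mem_sup_left hb)))
    rwa [mul_inv_cancel_right] at this
  have h2 : a ∉ N := fun e => hg' (mul_mem (Subgroup.mem_sup_right e) (Subgroup.mem_sup_left hb))
  have h3 : cj a B ⊓ B = ⊥ := (hti a ha).resolve_left fun e => h2 ⟨ha, cj_eq_self_iff.1 e⟩
  have h4 : cj a B ≤ B ⊔ N := cj_le_of_mem_norm le_sup_left h1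
  have h5 := card_le (sup_le le_sup_left h4 : B ⊔ cj a B ≤ B ⊔ N)
  rw [card_sup_of_disj (h4.trans (sup_le_norm_left hNB)) (by rwa [inf_comm]), card_cj,
    card_sup_of_disj hNB (eq_bot_mono hAB (le_inf (inf_le_right.trans inf_le_left) inf_le_left))]
    at h5
  have h6 := Nat.le_of_mul_le_mul_left h5 (card_pos B)
  have h7 : N < A := lt_of_le_of_ne inf_le_left fun e => h2 (e.ge ha)
  have := card_lt h7
  omega

omit [Finite G] in
theorem exists_invol_pow {x : G} {k : ℕ} (hk : x ^ 2 ^ k = 1) (h1 : x ≠ 1) :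
    ∃ j, x ^ 2 ^ j ≠ 1 ∧ (x ^ 2 ^ j) ^ 2 = 1 := by
  induction k with
  | zero => exact absurd (by simpa using hk) h1
  | succ k ih =>
    by_cases h : x ^ 2 ^ k = 1
    · exact ih h
    · exact ⟨k, h, by rw [← pow_mul, ← pow_succ, hk]⟩

/-- an automorphism of `2`-power order of an abelian `2`-group with the same fixed points as its
square is trivial -/
theorem aut_eq_of_fix_sq {A : Type*} [CommGroup A] [Finite A] (hA : IsPGroup 2 A) (t : MulAut A)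
    {k : ℕ} (ht : t ^ 2 ^ k = 1) (hC : ∀ a : A, t (t a) = a → t a = a) (a : A) : t a = a := by
  haveI : Fact (Nat.Prime 2) := ⟨Nat.prime_two⟩
  let δ : A →* A := t.toMonoidHom / MonoidHom.id A
  have hδ : ∀ a, δ a = t a / a := fun a => rfl
  by_contra ha
  have hz : IsPGroup 2 (Subgroup.zpowers t) := pg_of_card (p := 2)
    (n := ((Nat.dvd_prime_pow Nat.prime_two).1 (orderOf_dvd_of_pow_eq_one ht)).choose) (by
      rw [Nat.card_zpowers]
      exact ((Nat.dvd_prime_pow Nat.prime_two).1 (orderOf_dvd_of_pow_eq_one ht)).choose_spec.2)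
  let I : SubMulAction (Subgroup.zpowers t) A :=
    { carrier := δ.range
      smul_mem' := by
        rintro ⟨s, n, rfl⟩ _ ⟨b, rfl⟩
        refine ⟨(t ^ n) b, ?_⟩
        change _ = (t ^ n) (t b / b)
        rw [hδ, map_div, ← MulAut.mul_apply, ← MulAut.mul_apply, (Commute.self_zpow t n).eq] }
  have hI : 2 ∣ Nat.card I := pg_dvd (A := δ.range) Nat.prime_two (hA.to_subgroup _)
    (ne_bot_of_mem ⟨a, rfl⟩ (by rw [hδ]; exact fun h => ha (div_eq_one.1 h)))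
  obtain ⟨⟨c, b, rfl⟩, hc, hne⟩ := hz.exists_fixed_point_of_prime_dvd_card_of_fixed_point I hI
    (a := ⟨1, one_mem δ.range⟩) (fun s => Subtype.ext (map_one (s : MulAut A)))
  have h1 : t (δ b) = δ b := congrArg Subtype.val (hc ⟨t, Subgroup.mem_zpowers t⟩)
  obtain ⟨m, hm⟩ := hA (δ b)
  obtain ⟨j, h2, h3⟩ := exists_invol_pow hm (fun h => hne (Subtype.ext h.symm))
  apply h2
  have h4 : t (b ^ 2 ^ j) = b ^ 2 ^ j * δ b ^ 2 ^ j := by
    rw [← map_pow δ, hδ, mul_div_cancel]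
  have h5 := hC (b ^ 2 ^ j) (by
    rw [h4, map_mul, h4, map_pow, h1, mul_assoc, ← pow_two, h3, mul_one])
  rw [h4] at h5
  exact mul_eq_left.1 h5

/-- ambient form of `aut_eq_of_fix_sq` -/
theorem mem_cent_of_cent_sq {A : Subgroup G} (hA : IsPGroup 2 A) (hc : IsMulCommutative A) {t : G}
    (hn : t ∈ N_(A)) {k : ℕ} (ht : t ^ 2 ^ k = 1) (h : A ⊓ C_[t ^ 2] ≤ C_[t]) : t ∈ C_(A) := by
  let inst : CommGroup A := { (inferInstance : Group A) with mul_comm := mul_comm' }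
  have := @aut_eq_of_fix_sq A inst _ hA (Subgroup.normalizerMonoidHom A ⟨t, hn⟩) k (by
    rw [← map_pow]
    have : (⟨t, hn⟩ : N_(A)) ^ 2 ^ k = 1 := Subtype.ext ht
    rw [this, map_one]) (fun a ha => by
      have h1 : t * (t * a * t⁻¹) * t⁻¹ = a := congrArg Subtype.val ha
      have h2 := mem_cent1.1 (h ⟨a.2, mem_cent1.2 (by
        conv_lhs => rw [← h1]
        rw [pow_two]; group)⟩)
      apply Subtype.ext
      change t * a * t⁻¹ = a
      rw [← h2]; group)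
  refine mem_cent.2 fun a ha => ?_
  have h1 : t * a * t⁻¹ = a := congrArg Subtype.val (this ⟨a, ha⟩)
  exact (mul_inv_eq_iff_eq_mul.1 h1).symm

/-- a `P`-invariant TI family of non-elementary subgroups of equal order of a `2`-group `P`
consists of pairwise commuting subgroups -/
theorem ti_family_cent {P : Subgroup G} (hP : IsPGroup 2 P) {Δ : Set (Subgroup G)}
    (hle : ∀ R ∈ Δ, R ≤ P) (hinv : ∀ s ∈ P, ∀ R ∈ Δ, cj s R ∈ Δ)
    (hΦ : ∀ R ∈ Δ, ∃ x ∈ R, x ^ 2 ≠ 1) (hord : ∀ R ∈ Δ, ∀ T ∈ Δ, Nat.card R = Nat.card T)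
    (hti : ∀ R ∈ Δ, ∀ T ∈ Δ, R = T ∨ R ⊓ T = ⊥) :
    ∀ R ∈ Δ, ∀ T ∈ Δ, R ≠ T → R ≤ C_(T) := by
  suffices H : ∀ n, ∀ R ∈ Δ, ∀ T ∈ Δ, Nat.card ↥(R ⊔ T) = n → R ≠ T → R ≤ C_(T) from
    fun R hR T hT => H _ R hR T hT rfl
  intro n
  induction n using Nat.strong_induction_on with
  | _ n ih =>
  intro R hR T hT hn hne
  have h2 := Nat.prime_two
  have hd : R ⊓ T = ⊥ := (hti R hR T hT).resolve_left hne
  have pg : ∀ R ∈ Δ, IsPGroup 2 R := fun R hR => pg_le hP (hle R hR)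
  have ti : ∀ R ∈ Δ, ∀ s ∈ P, cj s R = R ∨ cj s R ⊓ R = ⊥ := fun R hR s hs =>
    hti _ (hinv s hs R hR) R hR
  -- conjugates commute
  have cc : ∀ R ∈ Δ, ∀ T ∈ Δ, Nat.card ↥(R ⊔ T) = n → R ≠ T → ∀ t ∈ T, t ∉ N_(R) →
      cj t R ≤ C_(R) := fun R hR T hT hn hne t ht ht' => by
    have hlt : R < R ⊔ T := lt_of_le_of_ne le_sup_left fun e =>
      hne (eq_of_le_of_card_eq (le_sup_right.trans e.ge) (hord T hT R hR)).symm
    obtain ⟨M, h1, h3, h4⟩ := nil_exists_normal_over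
      (pg_nil h2 (pg_le hP (sup_le (hle R hR) (hle T hT)))) hlt
    refine ih _ ?_ _ (hinv t (hle T hT ht) R hR) R hR rfl fun e => ht' (cj_eq_self_iff.1 e)
    rw [← hn]
    exact card_lt (lt_of_le_of_lt (sup_le (cj_le_of_mem_norm h1 (h4 (Subgroup.mem_sup_right ht))) h1)
      h3)
  have cc1 := cc R hR T hT hn hne
  have cc2 := cc T hT R hR (by rwa [sup_comm]) hne.symm
  by_cases h3 : T ≤ N_(R)
  · exact ti_cent_of_norm h2 (pg R hR) (pg T hT) (fun a ha => ti T hT a (hle R hR ha))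
      (hord R hR T hT).le hd h3
  by_cases h4 : R ≤ N_(T)
  · exact cent_symm (ti_cent_of_norm h2 (pg T hT) (pg R hR) (fun a ha => ti R hR a (hle T hT ha))
      (hord T hT R hR).le (by rwa [inf_comm]) h4)
  exfalso
  -- the normalizers are trivial
  have triv : ∀ R ∈ Δ, ∀ T ∈ Δ, ¬ T ≤ N_(R) → ¬ R ≤ N_(T) →
      (∀ t ∈ T, t ∉ N_(R) → cj t R ≤ C_(R)) → R ⊓ N_(T) = ⊥ := fun R hR T hT h3 h4 cc1 => by
    obtain ⟨t, ht, ht'⟩ := SetLike.not_le_iff_exists.1 h3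
    have key : ∀ z ∈ R ⊓ N_(T), ∀ r ∈ R, r ∉ N_(T) → z * r = r * z → z = 1 := by
      intro z hz r hr hr' e
      have hd1 := (ti R hR t (hle T hT ht)).resolve_left fun e => ht' (cj_eq_self_iff.1 e)
      have hd2 := (ti T hT r (hle R hR hr)).resolve_left fun e => hr' (cj_eq_self_iff.1 e)
      have h5 : z * t * z⁻¹ * t⁻¹ ∈ T := mul_mem (conj_mem_of_norm hz.2 ht) (inv_mem ht)
      have h6 := mem_cent.1 (cc1 t ht ht' (conj_mem_cj t (inv_mem hz.1))) r hr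
      have h7 : r * (z * t * z⁻¹ * t⁻¹) * r⁻¹ = z * t * z⁻¹ * t⁻¹ := by
        calc r * (z * t * z⁻¹ * t⁻¹) * r⁻¹ = (r * z) * (t * z⁻¹ * t⁻¹) * r⁻¹ := by group
          _ = z * (r * (t * z⁻¹ * t⁻¹)) * r⁻¹ := by rw [← e]; group
          _ = _ := by rw [h6]; group
      have h8 := eq_one_of_mem_of_disj hd2 (h7 ▸ conj_mem_cj r h5) h5
      have h9 : z = t * z * t⁻¹ := by
        calc z = (z * t * z⁻¹ * t⁻¹) * (t * z * t⁻¹) := by group
          _ = _ := by rw [h8, one_mul]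
      exact eq_one_of_mem_of_disj hd1 (h9 ▸ conj_mem_cj t hz.1) hz.1
    obtain ⟨r, hr, hr'⟩ := SetLike.not_le_iff_exists.1 h4
    obtain ⟨z, hz, hz1⟩ := exists_mem_ne_one (pg_center_ne_bot h2 (pg R hR)
      (ne_bot_of_mem hr fun e => hr' (e ▸ one_mem _)))
    have hzN : z ∉ N_(T) := fun e => hz1 (key z ⟨hz.1, e⟩ r hr hr' (mem_cent.1 hz.2 r hr).symm)
    rw [eq_bot_iff]
    intro w hw
    exact key w hw z hz.1 hzN (mem_cent.1 hz.2 w hw.1)
  have t1 := triv R hR T hT h3 h4 cc1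
  have t2 := triv T hT R hR h4 h3 cc2
  obtain ⟨x, hx, hx2⟩ := hΦ R hR
  obtain ⟨y, hy, hy2⟩ := hΦ T hT
  obtain ⟨t, ht, ho⟩ := exists_orderOf_eq_prime h2 (pg_dvd h2 (pg T hT)
    (ne_bot_of_mem hy fun e => hy2 (by rw [e, one_pow])))
  have ht2 : t * t = 1 := by rw [← pow_two, ← ho, pow_orderOf_eq_one]
  have hti' : t⁻¹ = t := inv_eq_of_mul_eq_one_right ht2
  have htN : t ∉ N_(R) := fun e => by
    have := eq_one_of_mem_of_disj t2 ht e
    rw [this, orderOf_one] at ho; omega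
  have hxN : x ∉ N_(T) := fun e => hx2 (by rw [eq_one_of_mem_of_disj t1 hx e, one_pow])
  have e1 := mem_cent.1 (cc1 t ht htN (conj_mem_cj t hx)) x hx
  have e2 := mem_cent.1 (cc2 x hx hxN (conj_mem_cj x ht)) t ht
  have hd1 := (ti R hR t (hle T hT ht)).resolve_left fun e => htN (cj_eq_self_iff.1 e)
  set u := t * x * t⁻¹ with hu
  have e3 : u * x⁻¹ = x * u⁻¹ := by
    calc u * x⁻¹ = t * (x * t * x⁻¹) := by rw [hu, hti']; group
      _ = x * t * x⁻¹ * t := e2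
      _ = x * u⁻¹ := by rw [hu, mul_inv_rev, mul_inv_rev, inv_inv, hti']; group
  have e4 : u ^ 2 = x ^ 2 := by
    calc u ^ 2 = (u * x⁻¹) * (x * u) := by rw [pow_two]; group
      _ = x * u⁻¹ * (u * x) := by rw [e3, e1]
      _ = x ^ 2 := by rw [pow_two]; group
  exact hx2 (eq_one_of_mem_of_disj hd1 (e4 ▸ pow_mem (conj_mem_cj t hx) 2) (pow_mem hx 2))

/-- tightly embedded, ambient form -/
def TE (Q : Subgroup G) : Prop :=
  2 ∣ Nat.card Q ∧ ∀ g, g ∉ N_(Q) → ¬ 2 ∣ Nat.card ↥(Q ⊓ cj g Q)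

omit [Finite G] in
theorem TE.cj {Q : Subgroup G} (h : TE Q) (g : G) : TE (cj g Q) := by
  refine ⟨by rw [card_cj]; exact h.1, fun x hx => ?_⟩
  have := h.2 (g⁻¹ * x * g) (fun e => hx (by rw [← cj_norm]; exact mem_cj.2 e))
  rw [← card_cj g, cj_inf, cj_cj] at this
  rwa [cj_cj, show x * g = g * (g⁻¹ * x * g) by group]

theorem TE.mem_norm {Q T : Subgroup G} (h : TE Q) (hT : IsPGroup 2 T) (h0 : T ≠ ⊥) {g : G}
    (h1 : T ≤ Q) (h2 : T ≤ BG.cj g Q) : g ∈ N_(Q) := by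
  by_contra e
  exact h.2 g e ((pg_dvd Nat.prime_two hT h0).trans (card_dvd (le_inf h1 h2)))

theorem TE.norm_le {Q T : Subgroup G} (h : TE Q) (hT : IsPGroup 2 T) (h0 : T ≠ ⊥) (h1 : T ≤ Q) :
    N_(T) ≤ N_(Q) := fun g hg =>
  h.mem_norm hT h0 h1 (by rw [← cj_of_mem_norm hg]; exact cj_mono g h1)

/-- the basic step for tightly embedded subgroups -/
theorem TE.step {Q T S : Subgroup G} (h : TE Q) {g : G} (hg : g ∉ N_(Q)) (h0 : T ≠ ⊥)
    (hT : IsSylowIn 2 T (BG.cj g Q ⊓ N_(Q))) (hTS : T ≤ S) (hS : IsSylowIn 2 S (Q ⊔ T)) :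
    T ⊓ Q = ⊥ ∧ Dprod T (S ⊓ N_(T) ⊓ Q) (S ⊓ N_(T)) ∧
      ((∃ s, BG.cj s T ≤ S ⊓ N_(T) ∧ BG.cj s T ⊓ T = ⊥) ∨ IsSylowIn 2 (S ⊓ N_(T) ⊓ Q) Q) := by
  have h2 := Nat.prime_two
  have hTp := hT.pg h2
  have hTn : T ≤ N_(Q) := hT.le.trans inf_le_right
  have hd : T ⊓ Q = ⊥ := by
    by_contra e
    exact hg (h.mem_norm (pg_le hTp inf_le_left) e inf_le_right
      (inf_le_left.trans (hT.le.trans inf_le_left)))
  have hd' : T ⊓ (S ⊓ N_(T) ⊓ Q) = ⊥ := eq_bot_mono hd (inf_le_inf_left _ inf_le_right)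
  have hTW : T ≤ S ⊓ N_(T) := le_inf hTS (le_norm T)
  have hsup : T ⊔ (S ⊓ N_(T) ⊓ Q) = S ⊓ N_(T) := by
    rw [← dedekind hTW (Or.inr hTn), inf_eq_left, sup_comm]
    exact inf_le_left.trans hS.le
  have hc : S ⊓ N_(T) ⊓ Q ≤ C_(T) := le_cent_of_disj (inf_le_left.trans inf_le_right)
    (norm_inf (norm_of_le hTW) hTn) (by rwa [inf_comm])
  refine ⟨hd, by have := dprod_sup hc hd'; rwa [hsup] at this, ?_⟩
  by_cases hW : S ≤ N_(T)
  · right
    rw [inf_eq_left.2 hW]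
    exact hS.inf_normal le_sup_left (sup_le_norm_left hTn)
  · left
    obtain ⟨s, hs, hs'⟩ := SetLike.exists_of_lt (nil_lt_norm (pg_nil h2 (hS.pg h2))
      (lt_of_le_of_ne inf_le_left fun e => hW (e.ge.trans inf_le_right) : S ⊓ N_(T) < S))
    have h1 : BG.cj s T ≤ S ⊓ N_(T) := cj_le_of_mem_norm hTW hs.2
    refine ⟨s, h1, ?_⟩
    by_contra e
    have h3 : s ∈ N_(BG.cj g Q) := (h.cj g).mem_norm (pg_le hTp inf_le_right) e
      (inf_le_right.trans (hT.le.trans inf_le_left))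
      (inf_le_left.trans (cj_mono s (hT.le.trans inf_le_left)))
    have h4 : s ∈ N_(Q) := sup_le_norm_left hTn (hS.le hs.1)
    have h5 : BG.cj s T ≤ T := hT.le_of_norm_pg' h2 (isPGroup_cj.2 hTp)
      (le_inf (cj_le_of_mem_norm (hT.le.trans inf_le_left) h3)
        (cj_le_of_mem (hT.le.trans inf_le_right) h4)) (h1.trans inf_le_right)
    exact hs' ⟨hs.1, mem_norm_of_cj_le h5⟩

theorem TE.card_le {Q T S : Subgroup G} (h : TE Q) {g : G} (hg : g ∉ N_(Q)) (h0 : T ≠ ⊥)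
    (hT : IsSylowIn 2 T (BG.cj g Q ⊓ N_(Q))) (hTS : T ≤ S) (hS : IsSylowIn 2 S (Q ⊔ T)) :
    Nat.card T ≤ Nat.card ↥(S ⊓ N_(T) ⊓ Q) := by
  obtain ⟨-, hD, ⟨s, h1, h2⟩ | h1⟩ := h.step hg h0 hT hTS hS
  · have h3 := BG.card_le (sup_le hD.le_left h1)
    rw [card_sup_of_disj (h1.trans inf_le_right) (by rwa [inf_comm]), card_cj, hD.card] at h3
    exact Nat.le_of_mul_le_mul_left h3 (card_pos T)
  · rw [← card_cj g⁻¹ T]
    exact Nat.le_of_dvd (card_pos _) (h1.card_dvd ((isPi_singleton Nat.prime_two).2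
      (isPGroup_cj.2 (hT.pg Nat.prime_two)))
      (cj_le_iff.2 (by rw [inv_inv]; exact hT.le.trans inf_le_left)))

/-- `2`-subgroups of `Q ∩ N(Q^g)` are no larger than a Sylow `2`-subgroup of `Q^g ∩ N(Q)` -/
theorem TE.card_le_symm {Q T R : Subgroup G} (h : TE Q) {g : G} (hg : g ∉ N_(Q))
    (hT : IsSylowIn 2 T (BG.cj g Q ⊓ N_(Q))) (hR : IsPGroup 2 R) (hle : R ≤ Q ⊓ N_(BG.cj g Q)) :
    Nat.card R ≤ Nat.card T := by
  have h2 := Nat.prime_two
  by_cases h0 : R = ⊥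
  · rw [h0, Subgroup.card_bot]; exact card_pos T
  obtain ⟨T', hT', h1⟩ := sylow_superset h2 hR hle
  obtain ⟨S', hS', h3⟩ := sylow_superset h2 (hT'.pg h2) (le_sup_right : T' ≤ BG.cj g Q ⊔ T')
  have hg' : g⁻¹ ∉ N_(BG.cj g Q) := fun e => hg (by
    have := cj_of_mem_norm e
    rw [cj_inv_cj] at this
    exact cj_eq_self_iff.1 this.symm)
  have hT'' : IsSylowIn 2 T' (BG.cj g⁻¹ (BG.cj g Q) ⊓ N_(BG.cj g Q)) := by rwa [cj_inv_cj]
  have h0' := ne_bot_mono h0 h1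
  have h4 := (h.cj g).card_le hg' h0' hT'' h3 hS'
  have h5 := Nat.le_of_dvd (card_pos _) (hT.card_dvd (K := S' ⊓ N_(T') ⊓ BG.cj g Q)
    ((isPi_singleton h2).2 (pg_le (hS'.pg h2) (inf_le_left.trans inf_le_left)))
    (le_inf inf_le_right ((inf_le_left.trans inf_le_right).trans
      (h.norm_le (hT'.pg h2) h0' (hT'.le.trans inf_le_left)))))
  exact (BG.card_le h1).trans (h4.trans h5)

end H16
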